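import Groth.Agent.BrnchNbhd.Scheme
import Groth.Agent.S9235
import Groth.Agent.S9236

/-! Elementary facts on components and unibranchness. -/

universe u

open CategoryTheory AlgebraicGeometry

namespace Groth.Agent.BrnchNbhd

theorem unibranch_iff (A : Type u) [CommRing A] [IsLocalRing A] :
    (Brnch.numBranches A = 1 ↔ CAlg2.IsUnibranch A) ∧
      (Brnch.numGeomBranches A = 1 ↔ CAlg2.IsGeomUnibranch A) :=
  ⟨Groth.Agent.S9235.result A, Groth.Agent.S9236.result A⟩

theorem one_le_encard {X : Scheme.{u}} (x : X) :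
    1 ≤ {Z : Set X | Z ∈ irreducibleComponents X ∧ x ∈ Z}.encard :=
  Set.one_le_encard_iff_nonempty.mpr
    ⟨irreducibleComponent x, irreducibleComponent_mem_irreducibleComponents x, mem_irreducibleComponent⟩

theorem isEtaleNbhd_id (X : Scheme.{u}) (x : X) : Hens2.IsEtaleNbhd (𝟙 X) x x :=
  ⟨inferInstance, rfl, MorLib.EEF.bijective_rfm_isOpenImmersion (𝟙 X) x⟩

end Groth.Agent.BrnchNbhd
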