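import Groth.Agent.Hensel.Colim
import Groth.Agent.Hensel.Henselization
import Mathlib.RingTheory.Unramified.Finite
import Mathlib.RingTheory.Localization.AtPrime.Basic
import Mathlib.RingTheory.Ideal.GoingDown
import Mathlib.RingTheory.Flat.Basic
import Mathlib.Data.ENat.Lattice

/-! Minimal primes of `Henz R L` counted by those of etale neighbourhoods below the point. -/

noncomputable section

universe u

open IsLocalRing

namespace Groth.Agent.BrnchNbhd

open Groth.Agent.Hensel

section local_

variable {R : Type u} [CommRing R] {L : Type u} [Field L] [Algebra R L]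

theorem isLocalRing_henz_field : IsLocalRing (Henz R L) :=
  have : Nontrivial (Henz R L) := (Henz.proj R L).toRingHom.domain_nontrivial
  .of_nonunits_add fun a b ha hb => by
    simp only [mem_nonunits_iff, Henz.isUnit_iff, isUnit_iff_ne_zero, not_not] at ha hb ⊢
    rw [map_add, ha, hb, add_zero]

/-- An endomorphism of `Henz` over `R` compatible with the projection is the identity. -/
theorem endo_eq_id (hs : Function.Surjective (Henz.proj R L)) (h : Henz R L →ₐ[R] Henz R L)
    (hh : ∀ z, Henz.proj R L (h z) = Henz.proj R L z) : h = AlgHom.id R _ := by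
  let θ : (Henz.proj R L).range →ₐ[R] Henz R L ⧸ RingHom.ker (Henz.proj R L) :=
    (Ideal.quotientKerEquivRange (Henz.proj R L)).symm.toAlgHom
  obtain ⟨h₀, -, huniq⟩ := Henz.existsUnique_lift (R := R) (K := L) (RingHom.ker (Henz.proj R L)) θ
  have key : ∀ z, Ideal.Quotient.mk _ z = θ ((Henz.proj R L).rangeRestrict z) := fun z =>
    ((Ideal.quotientKerEquivRange (Henz.proj R L)).symm_apply_apply _).symm.trans rfl
  refine (huniq h fun z => ?_).trans (huniq (AlgHom.id R _) key).symm
  rw [← key, Ideal.Quotient.eq, RingHom.mem_ker, map_sub, hh, sub_self]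

/-- A lift between two `Henz` rings with the same target. -/
theorem exists_hom {R' : Type u} [CommRing R'] [Algebra R' L] [Algebra R (Henz R' L)]
    (hc : ∀ r, Henz.proj R' L (algebraMap R (Henz R' L) r) = algebraMap R L r)
    (hs : Function.Surjective (Henz.proj R' L)) :
    ∃ g : Henz R L →ₐ[R] Henz R' L, ∀ z, Henz.proj R' L (g z) = Henz.proj R L z := by
  let p : Henz R' L →ₐ[R] L := { (Henz.proj R' L).toRingHom with commutes' := hc }
  let J : Ideal (Henz R' L) := RingHom.ker (Henz.proj R' L)
  haveI : HenselianRing (Henz R' L) (RingHom.ker p) := (Henz.henselianRing : HenselianRing (Henz R' L) J)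
  let e : (Henz R' L ⧸ RingHom.ker p) ≃ₐ[R] L :=
    Ideal.quotientKerAlgEquivOfSurjective (f := p) hs
  obtain ⟨g, hg, -⟩ := Henz.existsUnique_lift (R := R) (K := L) (RingHom.ker p)
    (e.symm.toAlgHom.comp (Henz.proj R L).range.val)
  refine ⟨g, fun z => ?_⟩
  have := congrArg e (hg z)
  simp [e] at this
  exact this

end local_

section atPrime

variable {R : Type u} [CommRing R] (P : Ideal R) [P.IsPrime] (A : Type u) [CommRing A] [Algebra R A]
  [IsLocalization.AtPrime A P] [IsLocalRing A] (L : Type u) [Field L] [Algebra R L] [Algebra A L]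
  [IsScalarTower R A L] [Algebra (ResidueField A) L] [IsScalarTower A (ResidueField A) L]
  [Algebra.IsSeparable (ResidueField A) L]

include P in
theorem exists_henz_equiv : ∃ e : Henz R L ≃+* Henz A L,
    ∀ r, e (algebraMap R (Henz R L) r) = algebraMap A (Henz A L) (algebraMap R A r) := by
  have hu : ∀ s : P.primeCompl, IsUnit (algebraMap R (Henz R L) s) := fun s => Henz.isUnit_iff.mpr (by
    rw [AlgHom.commutes, IsScalarTower.algebraMap_apply R A L]
    exact (IsLocalization.map_units A s).map _)
  let j : A →+* Henz R L := IsLocalization.lift hu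
  have hjp : (Henz.proj R L).toRingHom.comp j = algebraMap A L :=
    IsLocalization.ringHom_ext P.primeCompl (RingHom.ext fun r => by
      simp [j, IsLocalization.lift_eq, ← IsScalarTower.algebraMap_apply])
  letI : Algebra A (Henz R L) := j.toAlgebra
  have hsA : Function.Surjective (Henz.proj A L) := proj_surjective_of_isSeparable
  have hsR : Function.Surjective (Henz.proj R L) := by
    intro κ
    let p := minpoly (ResidueField A) κ
    have hint : IsIntegral (ResidueField A) κ := Algebra.IsIntegral.isIntegral κ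
    have hp : p ∈ Polynomial.lifts (IsLocalRing.residue A) :=
      (Polynomial.mem_lifts p).mpr (Polynomial.map_surjective _ residue_surjective p)
    obtain ⟨f, hf, -, hfm⟩ := Polynomial.lifts_and_natDegree_eq_and_monic hp (minpoly.monic hint)
    have hmap : ∀ q : Polynomial A, (q.map j).eval₂
        (Henz.proj R L).toRingHom κ = (q.map (IsLocalRing.residue A)).eval₂
          (algebraMap (ResidueField A) L) κ := fun q => by
      rw [Polynomial.eval₂_map, Polynomial.eval₂_map, ← IsLocalRing.ResidueField.algebraMap_eq,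
        ← IsScalarTower.algebraMap_eq, hjp]
    obtain ⟨a, -, ha⟩ := Henz.exists_root_proj (f.map j) (hfm.map _) κ
      (by rw [hmap, hf]; exact minpoly.aeval _ _) (by
        rw [Polynomial.derivative_map, hmap, ← Polynomial.derivative_map, hf]
        exact isUnit_iff_ne_zero.mpr ((Algebra.IsSeparable.isSeparable _ κ).aeval_derivative_ne_zero
          (minpoly.aeval _ _)))
    exact ⟨a, ha⟩
  letI : Algebra R (Henz A L) := ((algebraMap A (Henz A L)).comp (algebraMap R A)).toAlgebra
  obtain ⟨g, hg⟩ := exists_hom (R := R) (R' := A) (L := L) (fun r => by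
    rw [show algebraMap R (Henz A L) r = algebraMap A (Henz A L) (algebraMap R A r) from rfl,
      AlgHom.commutes, ← IsScalarTower.algebraMap_apply]) hsA
  obtain ⟨g', hg'⟩ := exists_hom (R := A) (R' := R) (L := L) (fun a => RingHom.congr_fun hjp a) hsR
  let h : Henz R L →ₐ[R] Henz R L :=
    { g'.toRingHom.comp g.toRingHom with
      commutes' := fun r => by
        show g' (g (algebraMap R _ r)) = _
        rw [g.commutes, show algebraMap R (Henz A L) r = algebraMap A (Henz A L) (algebraMap R A r) from rfl,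
          g'.commutes]
        exact IsLocalization.lift_eq hu r }
  have hA : (g.toRingHom.comp j) = algebraMap A (Henz A L) :=
    IsLocalization.ringHom_ext P.primeCompl (RingHom.ext fun r => by
      show g (j (algebraMap R A r)) = _
      rw [IsLocalization.lift_eq, g.commutes]
      rfl)
  let h' : Henz A L →ₐ[A] Henz A L :=
    { g.toRingHom.comp g'.toRingHom with
      commutes' := fun a => by
        show g (g' (algebraMap A _ a)) = _
        rw [g'.commutes]
        exact RingHom.congr_fun hA a }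
  have h1 := endo_eq_id hsR h fun z => (hg' _).trans (hg z)
  have h2 := endo_eq_id hsA h' fun z => (hg _).trans (hg' z)
  exact ⟨RingEquiv.ofRingHom g.toRingHom g'.toRingHom (RingHom.ext fun z => AlgHom.congr_fun h2 z)
    (RingHom.ext fun z => AlgHom.congr_fun h1 z), fun r => g.commutes r⟩

include P in
theorem nonempty_henz_equiv : Nonempty (Henz R L ≃+* Henz A L) :=
  let ⟨e, _⟩ := exists_henz_equiv P A L; ⟨e⟩

end atPrime

theorem card_minimalPrimes_congr {S T : Type u} [CommRing S] [CommRing T] (e : S ≃+* T) :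
    ENat.card (minimalPrimes S) = ENat.card (minimalPrimes T) := by
  refine ENat.card_congr
    { toFun := fun q => ⟨q.1.comap e.symm.toRingHom, ?_⟩
      invFun := fun q => ⟨q.1.comap e.toRingHom, ?_⟩
      left_inv := fun q => Subtype.ext (by simp [Ideal.comap_comap])
      right_inv := fun q => Subtype.ext (by simp [Ideal.comap_comap]) }
  · haveI := q.2.1.1
    refine ⟨⟨inferInstance, bot_le⟩, fun J hJ hle s hs => ?_⟩
    haveI := hJ.1
    have hq := q.2.2 (y := J.comap e.toRingHom) ⟨inferInstance, bot_le⟩ fun t ht => by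
      have h : e.symm (e t) ∈ q.1 := hle (show e t ∈ J from ht)
      rwa [e.symm_apply_apply] at h
    have h : e (e.symm s) ∈ J := hq hs
    rwa [e.apply_symm_apply] at h
  · haveI := q.2.1.1
    refine ⟨⟨inferInstance, bot_le⟩, fun J hJ hle s hs => ?_⟩
    haveI := hJ.1
    have hq := q.2.2 (y := J.comap e.symm.toRingHom) ⟨inferInstance, bot_le⟩ fun t ht => by
      have h : e (e.symm t) ∈ q.1 := hle (show e.symm t ∈ J from ht)
      rwa [e.apply_symm_apply] at h
    have h : e.symm (e s) ∈ J := hq hs
    rwa [e.symm_apply_apply] at h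

section count

variable {R : Type u} [CommRing R] {L : Type u} [Field L] [Algebra R L]

/-- Going down along a map from an etale algebra to `Henz`. -/
theorem comap_mem_and_exists {B : Type u} [CommRing B] [Algebra R B] [Algebra.Etale R B]
    (φ : B →ₐ[R] Henz R L) :
    (∀ q ∈ minimalPrimes (Henz R L), q.comap φ.toRingHom ∈ minimalPrimes B ∧
        q.comap φ.toRingHom ≤ RingHom.ker ((Henz.proj R L).comp φ)) ∧
    (∀ q ∈ minimalPrimes B, q ≤ RingHom.ker ((Henz.proj R L).comp φ) →
        ∃ q' ∈ minimalPrimes (Henz R L), q'.comap φ.toRingHom = q) := by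
  haveI := isLocalRing_henz_field (R := R) (L := L)
  letI : Algebra B (Henz R L) := φ.toRingHom.toAlgebra
  haveI : IsScalarTower R B (Henz R L) := .of_algebraMap_eq fun r => (φ.commutes r).symm
  haveI : Module.Flat B (Henz R L) := Algebra.FormallyUnramified.flat_of_restrictScalars R B (Henz R L)
  haveI hP : (RingHom.ker ((Henz.proj R L).comp φ)).IsPrime := RingHom.ker_isPrime _
  let m : Ideal (Henz R L) := RingHom.ker (Henz.proj R L)
  haveI : m.IsPrime := RingHom.ker_isPrime _
  have hover : m.comap (algebraMap B (Henz R L)) = RingHom.ker ((Henz.proj R L).comp φ) := by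
    ext b; rfl
  have hle : ∀ q : Ideal (Henz R L), q.IsPrime → q ≤ m := fun q hq z hz => by
    by_contra hne
    exact hq.ne_top (q.eq_top_of_isUnit_mem hz (Henz.isUnit_iff.mpr (isUnit_iff_ne_zero.mpr hne)))
  refine ⟨fun q hq => ?_, fun q hq hqP => ?_⟩
  · haveI := hq.1.1
    refine ⟨⟨⟨Ideal.IsPrime.comap _, bot_le⟩, fun p hp hpq => ?_⟩, ?_⟩
    · haveI := hp.1
      obtain ⟨q', hq'le, hq', ho⟩ := Ideal.exists_ideal_le_liesOver_of_le (p := p)
        (q := q.comap (algebraMap B (Henz R L))) q hpq
      have := hq.2 ⟨hq', bot_le⟩ hq'le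
      rw [ho.over, Ideal.under_def]
      exact Ideal.comap_mono this
    · rw [← hover]
      exact Ideal.comap_mono (hle q hq.1.1)
  · haveI := hq.1.1
    haveI : m.LiesOver (RingHom.ker ((Henz.proj R L).comp φ)) := ⟨hover.symm⟩
    obtain ⟨q', -, hq', ho⟩ := Ideal.exists_ideal_le_liesOver_of_le (p := q)
      (q := RingHom.ker ((Henz.proj R L).comp φ)) m hqP
    haveI := hq'
    obtain ⟨q'', hq'', hle''⟩ := Ideal.exists_minimalPrimes_le (I := (⊥ : Ideal (Henz R L))) (J := q') bot_le
    refine ⟨q'', hq'', le_antisymm ?_ (hq.2 ⟨haveI := hq''.1.1; Ideal.IsPrime.comap _, bot_le⟩ ?_)⟩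
    · rw [ho.over]; exact Ideal.comap_mono hle''
    · rw [ho.over]; exact Ideal.comap_mono hle''

theorem encard_le {B : Type u} [CommRing B] [Algebra R B] [Algebra.Etale R B] (τ : B →ₐ[R] L) :
    {q : Ideal B | q ∈ minimalPrimes B ∧ q ≤ RingHom.ker τ}.encard ≤ ENat.card (minimalPrimes (Henz R L)) := by
  obtain ⟨h1, h2⟩ := comap_mem_and_exists (L := L) (Henz.ofNbhd B τ)
  have hτ : RingHom.ker ((Henz.proj R L).comp (Henz.ofNbhd B τ)) = RingHom.ker τ := by
    ext b; simp [Henz.proj_ofNbhd]
  let f : minimalPrimes (Henz R L) → {q : Ideal B | q ∈ minimalPrimes B ∧ q ≤ RingHom.ker τ} :=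
    fun q => ⟨q.1.comap (Henz.ofNbhd B τ).toRingHom, (h1 q.1 q.2).1, hτ ▸ (h1 q.1 q.2).2⟩
  have hf : Function.Surjective f := by
    rintro ⟨q, hq, hqle⟩
    obtain ⟨q', hq', e⟩ := h2 q hq (hτ.symm ▸ hqle)
    exact ⟨⟨q', hq'⟩, Subtype.ext e⟩
  exact ENat.card_le_card_of_injective (Function.injective_surjInv hf)

theorem exists_common (s : Finset (Henz R L)) :
    ∃ N : Nbhd R L, ∀ z ∈ s, ∃ b, Henz.ofB N b = z := by
  classical
  induction s using Finset.induction with
  | empty => exact ⟨Classical.arbitrary _, by simp⟩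
  | insert a t _ ih =>
    obtain ⟨N, hN⟩ := ih
    obtain ⟨M, b, rfl⟩ := Henz.exists_ofB a
    obtain ⟨Q, α, β, hα, hβ⟩ := N.exists_hom₂ M
    refine ⟨Q, fun z hz => ?_⟩
    rcases Finset.mem_insert.mp hz with rfl | hz
    · exact ⟨β b, AlgHom.congr_fun (Henz.ofB_comp β hβ) b⟩
    · obtain ⟨c, rfl⟩ := hN z hz
      exact ⟨α c, AlgHom.congr_fun (Henz.ofB_comp α hα) c⟩

theorem card_le_iSup :
    ENat.card (minimalPrimes (Henz R L)) ≤
      ⨆ N : Nbhd R L, {q : Ideal N.B | q ∈ minimalPrimes N.B ∧ q ≤ RingHom.ker N.toK}.encard := by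
  classical
  refine ENat.forall_natCast_le_iff_le.mp fun n hn => ?_
  obtain ⟨t, ht⟩ : ∃ t : Set (minimalPrimes (Henz R L)), t.encard = n := by
    obtain ⟨t, -, ht⟩ := Set.exists_subset_encard_eq (s := (Set.univ : Set (minimalPrimes (Henz R L))))
      (k := n) (by rwa [Set.encard_univ])
    exact ⟨t, ht⟩
  have htf : t.Finite := Set.finite_of_encard_eq_coe ht
  have hne : ∀ a b : minimalPrimes (Henz R L), a ≠ b → ∃ z, z ∈ a.1 ∧ z ∉ b.1 := fun a b hab => by
    by_contra! h
    exact hab (Subtype.ext (le_antisymm h (b.2.2 a.2.1 h)))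
  choose! z hz using hne
  obtain ⟨N, hN⟩ := exists_common (L := L) ((htf.toFinset ×ˢ htf.toFinset).image fun ab => z ab.1 ab.2)
  obtain ⟨h1, -⟩ := comap_mem_and_exists (L := L) (Henz.ofB N)
  have hτ : RingHom.ker ((Henz.proj R L).comp (Henz.ofB N)) = RingHom.ker N.toK := by
    ext b; simp [Henz.proj_ofB]
  refine le_iSup_of_le N ?_
  rw [← ht]
  refine Set.encard_le_encard_of_injOn (f := fun a => a.1.comap (Henz.ofB N).toRingHom)
    (fun a _ => ⟨(h1 a.1 a.2).1, hτ ▸ (h1 a.1 a.2).2⟩) ?_
  intro a ha b hb hab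
  by_contra hne'
  obtain ⟨c, hc⟩ := hN (z a b) (Finset.mem_image.mpr ⟨(a, b),
    Finset.mem_product.mpr ⟨htf.mem_toFinset.mpr ha, htf.mem_toFinset.mpr hb⟩, rfl⟩)
  have hca : c ∈ a.1.comap (Henz.ofB N).toRingHom := by
    show Henz.ofB N c ∈ a.1
    rw [hc]; exact (hz a b hne').1
  rw [show a.1.comap (Henz.ofB N).toRingHom = b.1.comap (Henz.ofB N).toRingHom from hab] at hca
  refine (hz a b hne').2 ?_
  rw [← hc]
  exact hca

end count

end Groth.Agent.BrnchNbhd
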