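import Groth.Agent.BrnchNbhd.Alg
import Groth.Agent.BrnchLib.NormBij
import Groth.Agent.BrnchLib.HenzStrict
import Groth.Agent.GorFib.SH
import Groth.Agent.S13598
import Mathlib.RingTheory.Ideal.MinimalPrime.Localization

/-! Branches of a quotient of a local ring and minimal primes over an ideal of its henselization. -/

noncomputable section

universe u

open IsLocalRing

namespace Groth.Agent.BrnchNbhd

open Groth.Agent.Hensel

theorem encard_minimalPrimes_comap {S T : Type u} [CommRing S] [CommRing T] (f : S →+* T)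
    (hf : Function.Surjective f) (I : Ideal T) :
    (I.comap f).minimalPrimes.encard = I.minimalPrimes.encard := by
  rw [Ideal.comap_minimalPrimes_eq_of_surjective hf]
  exact ((Ideal.comap_injective_of_surjective f hf).injOn).encard_image

theorem card_minimalPrimes_quotient {S : Type u} [CommRing S] (I : Ideal S) :
    ENat.card (minimalPrimes (S ⧸ I)) = I.minimalPrimes.encard := by
  show (minimalPrimes (S ⧸ I)).encard = _
  rw [show minimalPrimes (S ⧸ I) = (⊥ : Ideal (S ⧸ I)).minimalPrimes from rfl,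
    ← encard_minimalPrimes_comap (Ideal.Quotient.mk I) Ideal.Quotient.mk_surjective,
    ← RingHom.ker_eq_comap_bot, Ideal.mk_ker]

theorem isLocalHom_comp_equiv {B C S : Type u} [CommRing B] [CommRing C] [CommRing S] (f : C →+* S)
    [IsLocalHom f] (e : B ≃+* C) : IsLocalHom (f.comp e.toRingHom) :=
  ⟨fun b hb => by
    have h : IsUnit (e b) := IsUnit.of_map f _ hb
    simpa using h.map e.symm⟩

theorem isHenselization_of_equiv {B C S : Type u} [CommRing B] [IsLocalRing B] [CommRing C] [IsLocalRing C]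
    [CommRing S] [IsLocalRing S] [Algebra B S] [IsLocalHom (algebraMap B S)] [Algebra C S]
    [IsLocalHom (algebraMap C S)] (e : B ≃+* C) (he : ∀ b, algebraMap C S (e b) = algebraMap B S b)
    [h : _root_.Hensel.IsHenselization B S] : _root_.Hensel.IsHenselization C S := by
  refine ⟨h.henselian, fun T _ _ f hf => ?_⟩
  obtain ⟨g, hg, huniq⟩ := h.universal T (f.comp e.toRingHom) (haveI := hf; isLocalHom_comp_equiv f e)
  refine ⟨g, RingHom.ext fun c => ?_, fun g' hg' => huniq g' (RingHom.ext fun b => ?_)⟩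
  · obtain ⟨b, rfl⟩ := e.surjective c
    rw [RingHom.comp_apply, he]
    exact RingHom.congr_fun hg b
  · rw [RingHom.comp_apply, ← he]
    exact RingHom.congr_fun hg' (e b)

theorem isStrictHenselization_of_equiv {B C S : Type u} [CommRing B] [IsLocalRing B] [CommRing C] [IsLocalRing C]
    [CommRing S] [IsLocalRing S] [Algebra B S] [IsLocalHom (algebraMap B S)] [Algebra C S]
    [IsLocalHom (algebraMap C S)] (e : B ≃+* C) (he : ∀ b, algebraMap C S (e b) = algebraMap B S b)
    [h : _root_.Hensel.IsStrictHenselization B S] : _root_.Hensel.IsStrictHenselization C S := by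
  let r := ResidueField.mapEquiv e
  have hr : ∀ x, ResidueField.map (algebraMap C S) (r x) = ResidueField.map (algebraMap B S) x := fun x => by
    obtain ⟨b, rfl⟩ := residue_surjective x
    exact congrArg (residue S) (he b)
  refine ⟨h.henselian, ⟨h.isSepClosure.sep_closed, ?_⟩, fun T _ _ f _ τ hτ => ?_⟩
  · haveI := h.isSepClosure.separable
    exact Algebra.IsSeparable.of_equiv_equiv r (RingEquiv.refl _) (RingHom.ext fun x => hr x)
  haveI := isLocalHom_comp_equiv f e
  have hτ' : τ.comp (ResidueField.map (algebraMap B S)) = ResidueField.map (f.comp e.toRingHom) :=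
    RingHom.ext fun x => by
      rw [RingHom.comp_apply, ← hr, ← RingHom.comp_apply τ, hτ]
      obtain ⟨b, rfl⟩ := residue_surjective x
      rfl
  obtain ⟨g, ⟨hg, hg2⟩, huniq⟩ := h.universal T (f.comp e.toRingHom) τ hτ'
  refine ⟨g, ⟨RingHom.ext fun c => ?_, hg2⟩, fun g' hg' => huniq g' ⟨RingHom.ext fun b => ?_, hg'.2⟩⟩
  · obtain ⟨b, rfl⟩ := e.surjective c
    rw [RingHom.comp_apply, he]
    exact RingHom.congr_fun hg b
  · rw [RingHom.comp_apply, ← he]
    exact RingHom.congr_fun hg'.1 (e b)

variable {A C : Type u} [CommRing A] [IsLocalRing A] [CommRing C] [IsLocalRing C] (π : A →+* C)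
  (hπ : Function.Surjective π)

include hπ in
theorem numBranches_eq_of_surjective :
    Brnch.numBranches C = ((RingHom.ker π).map (algebraMap A (LocalHenz A))).minimalPrimes.encard := by
  have hK : RingHom.ker π ≤ maximalIdeal A := IsLocalRing.le_maximalIdeal (RingHom.ker_ne_top π)
  have hKH : (RingHom.ker π).map (algebraMap A (LocalHenz A)) ≤ maximalIdeal (LocalHenz A) :=
    (Ideal.map_mono hK).trans (map_maximalIdeal_henz (R := A) (L := ResidueField A)).le
  haveI : Nontrivial (A ⧸ RingHom.ker π) := Ideal.Quotient.nontrivial_iff.2 (RingHom.ker_ne_top π)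
  haveI : Nontrivial (LocalHenz A ⧸ (RingHom.ker π).map (algebraMap A (LocalHenz A))) :=
    Ideal.Quotient.nontrivial_iff.2 fun h => (maximalIdeal.isMaximal _).ne_top (top_le_iff.1 (h ▸ hKH))
  haveI : IsLocalRing (A ⧸ RingHom.ker π) := .of_surjective' _ Ideal.Quotient.mk_surjective
  haveI : IsLocalRing (LocalHenz A ⧸ (RingHom.ker π).map (algebraMap A (LocalHenz A))) :=
    .of_surjective' _ Ideal.Quotient.mk_surjective
  haveI : IsLocalHom (algebraMap (A ⧸ RingHom.ker π)
      (LocalHenz A ⧸ (RingHom.ker π).map (algebraMap A (LocalHenz A)))) := by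
    refine ⟨fun b hb => ?_⟩
    obtain ⟨a, rfl⟩ := Ideal.Quotient.mk_surjective b
    haveI : IsLocalHom (Ideal.Quotient.mk ((RingHom.ker π).map (algebraMap A (LocalHenz A)))) :=
      .of_surjective _ Ideal.Quotient.mk_surjective
    exact (isUnit_of_map_unit (algebraMap A (LocalHenz A)) a
      (isUnit_of_map_unit (Ideal.Quotient.mk _) _ hb)).map _
  haveI := Groth.Agent.S13598.result (S := LocalHenz A) (RingHom.ker π) hK
  let e : A ⧸ RingHom.ker π ≃+* C := RingHom.quotientKerEquivOfSurjective hπ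
  letI : Algebra C (LocalHenz A ⧸ (RingHom.ker π).map (algebraMap A (LocalHenz A))) :=
    ((algebraMap (A ⧸ RingHom.ker π) _).comp e.symm.toRingHom).toAlgebra
  haveI : IsLocalHom (algebraMap C (LocalHenz A ⧸ (RingHom.ker π).map (algebraMap A (LocalHenz A)))) :=
    isLocalHom_comp_equiv _ e.symm
  haveI := isHenselization_of_equiv (S := LocalHenz A ⧸ (RingHom.ker π).map (algebraMap A (LocalHenz A))) e
    fun b => congrArg (algebraMap (A ⧸ RingHom.ker π) _) (e.symm_apply_apply b)
  rw [← card_minimalPrimes_quotient]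
  exact (BrnchLib.card_minimalPrimes_henselization C _).symm

include hπ in
theorem numGeomBranches_eq_of_surjective :
    Brnch.numGeomBranches C = ((RingHom.ker π).map (algebraMap A (StrictHenz A))).minimalPrimes.encard := by
  have hK : RingHom.ker π ≤ maximalIdeal A := IsLocalRing.le_maximalIdeal (RingHom.ker_ne_top π)
  have hKH : (RingHom.ker π).map (algebraMap A (StrictHenz A)) ≤ maximalIdeal (StrictHenz A) :=
    (Ideal.map_mono hK).trans (map_maximalIdeal_henz (R := A) (L := SeparableClosure (ResidueField A))).le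
  haveI : Nontrivial (A ⧸ RingHom.ker π) := Ideal.Quotient.nontrivial_iff.2 (RingHom.ker_ne_top π)
  haveI : Nontrivial (StrictHenz A ⧸ (RingHom.ker π).map (algebraMap A (StrictHenz A))) :=
    Ideal.Quotient.nontrivial_iff.2 fun h => (maximalIdeal.isMaximal _).ne_top (top_le_iff.1 (h ▸ hKH))
  haveI : IsLocalRing (A ⧸ RingHom.ker π) := .of_surjective' _ Ideal.Quotient.mk_surjective
  haveI : IsLocalRing (StrictHenz A ⧸ (RingHom.ker π).map (algebraMap A (StrictHenz A))) :=
    .of_surjective' _ Ideal.Quotient.mk_surjective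
  haveI : IsLocalHom (algebraMap (A ⧸ RingHom.ker π)
      (StrictHenz A ⧸ (RingHom.ker π).map (algebraMap A (StrictHenz A)))) := by
    refine ⟨fun b hb => ?_⟩
    obtain ⟨a, rfl⟩ := Ideal.Quotient.mk_surjective b
    haveI : IsLocalHom (Ideal.Quotient.mk ((RingHom.ker π).map (algebraMap A (StrictHenz A)))) :=
      .of_surjective _ Ideal.Quotient.mk_surjective
    exact (isUnit_of_map_unit (algebraMap A (StrictHenz A)) a
      (isUnit_of_map_unit (Ideal.Quotient.mk _) _ hb)).map _
  haveI := GorFib.isStrictHenselization_quotient A (StrictHenz A) (RingHom.ker π)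
  let e : A ⧸ RingHom.ker π ≃+* C := RingHom.quotientKerEquivOfSurjective hπ
  letI : Algebra C (StrictHenz A ⧸ (RingHom.ker π).map (algebraMap A (StrictHenz A))) :=
    ((algebraMap (A ⧸ RingHom.ker π) _).comp e.symm.toRingHom).toAlgebra
  haveI : IsLocalHom (algebraMap C (StrictHenz A ⧸ (RingHom.ker π).map (algebraMap A (StrictHenz A)))) :=
    isLocalHom_comp_equiv _ e.symm
  haveI := isStrictHenselization_of_equiv (S := StrictHenz A ⧸ (RingHom.ker π).map (algebraMap A (StrictHenz A))) e
    fun b => congrArg (algebraMap (A ⧸ RingHom.ker π) _) (e.symm_apply_apply b)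
  rw [← card_minimalPrimes_quotient]
  exact (BrnchLib.card_minimalPrimes_strictHenselization C _).symm

section relative

variable {R : Type u} [CommRing R] {L : Type u} [Field L] [Algebra R L] (J : Ideal R)

theorem comap_mem_and_exists_ideal {B : Type u} [CommRing B] [Algebra R B] [Algebra.Etale R B]
    (φ : B →ₐ[R] Henz R L) :
    (∀ q ∈ (J.map (algebraMap R (Henz R L))).minimalPrimes,
      q.comap φ.toRingHom ∈ (J.map (algebraMap R B)).minimalPrimes ∧
        q.comap φ.toRingHom ≤ RingHom.ker ((Henz.proj R L).comp φ)) ∧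
    (∀ q ∈ (J.map (algebraMap R B)).minimalPrimes, q ≤ RingHom.ker ((Henz.proj R L).comp φ) →
        ∃ q' ∈ (J.map (algebraMap R (Henz R L))).minimalPrimes, q'.comap φ.toRingHom = q) := by
  haveI := isLocalRing_henz_field (R := R) (L := L)
  letI : Algebra B (Henz R L) := φ.toRingHom.toAlgebra
  haveI : IsScalarTower R B (Henz R L) := .of_algebraMap_eq fun r => (φ.commutes r).symm
  haveI : Module.Flat B (Henz R L) := Algebra.FormallyUnramified.flat_of_restrictScalars R B (Henz R L)
  haveI hP : (RingHom.ker ((Henz.proj R L).comp φ)).IsPrime := RingHom.ker_isPrime _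
  let m : Ideal (Henz R L) := RingHom.ker (Henz.proj R L)
  haveI : m.IsPrime := RingHom.ker_isPrime _
  have hover : m.comap (algebraMap B (Henz R L)) = RingHom.ker ((Henz.proj R L).comp φ) := by
    ext b; rfl
  have hle : ∀ q : Ideal (Henz R L), q.IsPrime → q ≤ m := fun q hq z hz => by
    by_contra hne
    exact hq.ne_top (q.eq_top_of_isUnit_mem hz (Henz.isUnit_iff.mpr (isUnit_iff_ne_zero.mpr hne)))
  have hJ : (J.map (algebraMap R B)).map (algebraMap B (Henz R L)) = J.map (algebraMap R (Henz R L)) := by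
    rw [Ideal.map_map, ← IsScalarTower.algebraMap_eq]
  have key : ∀ q' : Ideal (Henz R L), J.map (algebraMap R (Henz R L)) ≤ q' ↔
      J.map (algebraMap R B) ≤ q'.comap (algebraMap B (Henz R L)) := fun q' => by
    rw [← hJ, Ideal.map_le_iff_le_comap]
  refine ⟨fun q hq => ?_, fun q hq hqP => ?_⟩
  · haveI := hq.1.1
    refine ⟨⟨⟨Ideal.IsPrime.comap _, (key q).mp hq.1.2⟩, fun p hp hpq => ?_⟩, ?_⟩
    · haveI := hp.1
      obtain ⟨q', hq'le, hq', ho⟩ := Ideal.exists_ideal_le_liesOver_of_le (p := p)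
        (q := q.comap (algebraMap B (Henz R L))) q hpq
      have := hq.2 ⟨hq', (key q').mpr (hp.2.trans_eq ho.over)⟩ hq'le
      rw [ho.over, Ideal.under_def]
      exact Ideal.comap_mono this
    · rw [← hover]
      exact Ideal.comap_mono (hle q hq.1.1)
  · haveI := hq.1.1
    haveI : m.LiesOver (RingHom.ker ((Henz.proj R L).comp φ)) := ⟨hover.symm⟩
    obtain ⟨q', -, hq', ho⟩ := Ideal.exists_ideal_le_liesOver_of_le (p := q)
      (q := RingHom.ker ((Henz.proj R L).comp φ)) m hqP
    haveI := hq'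
    obtain ⟨q'', hq'', hle''⟩ := Ideal.exists_minimalPrimes_le (J := q') ((key q').mpr (hq.1.2.trans_eq ho.over))
    refine ⟨q'', hq'', le_antisymm ?_ (hq.2 ⟨haveI := hq''.1.1; Ideal.IsPrime.comap _, (key q'').mp hq''.1.2⟩ ?_)⟩
    · rw [ho.over]; exact Ideal.comap_mono hle''
    · rw [ho.over]; exact Ideal.comap_mono hle''

theorem encard_le_ideal {B : Type u} [CommRing B] [Algebra R B] [Algebra.Etale R B] (τ : B →ₐ[R] L) :
    {q : Ideal B | q ∈ (J.map (algebraMap R B)).minimalPrimes ∧ q ≤ RingHom.ker τ}.encard ≤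
      (J.map (algebraMap R (Henz R L))).minimalPrimes.encard := by
  obtain ⟨h1, h2⟩ := comap_mem_and_exists_ideal (L := L) J (Henz.ofNbhd B τ)
  have hτ : RingHom.ker ((Henz.proj R L).comp (Henz.ofNbhd B τ)) = RingHom.ker τ := by
    ext b; simp [Henz.proj_ofNbhd]
  refine le_trans (Set.encard_le_encard fun q hq => ?_)
    (Set.encard_image_le (fun a : Ideal (Henz R L) => a.comap (Henz.ofNbhd B τ).toRingHom) _)
  obtain ⟨q', hq', e⟩ := h2 q hq.1 (hτ.symm ▸ hq.2)
  exact ⟨q', hq', e⟩

theorem card_le_iSup_ideal :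
    (J.map (algebraMap R (Henz R L))).minimalPrimes.encard ≤
      ⨆ N : Nbhd R L, {q : Ideal N.B | q ∈ (J.map (algebraMap R N.B)).minimalPrimes ∧ q ≤ RingHom.ker N.toK}.encard := by
  classical
  refine ENat.forall_natCast_le_iff_le.mp fun n hn => ?_
  obtain ⟨t, hts, ht⟩ := Set.exists_subset_encard_eq hn
  have htf : t.Finite := Set.finite_of_encard_eq_coe ht
  have hne : ∀ a ∈ t, ∀ b ∈ t, a ≠ b → ∃ z, z ∈ a ∧ z ∉ b := fun a ha b hb hab => by
    by_contra! h
    exact hab (le_antisymm h ((hts hb).2 (hts ha).1 h))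
  choose! z hz using hne
  obtain ⟨N, hN⟩ := exists_common (L := L) ((htf.toFinset ×ˢ htf.toFinset).image fun ab => z ab.1 ab.2)
  obtain ⟨h1, -⟩ := comap_mem_and_exists_ideal (L := L) J (Henz.ofB N)
  have hτ : RingHom.ker ((Henz.proj R L).comp (Henz.ofB N)) = RingHom.ker N.toK := by
    ext b; simp [Henz.proj_ofB]
  refine le_iSup_of_le N ?_
  rw [← ht]
  refine Set.encard_le_encard_of_injOn (f := fun a => a.comap (Henz.ofB N).toRingHom)
    (fun a ha => ⟨(h1 a (hts ha)).1, hτ ▸ (h1 a (hts ha)).2⟩) ?_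
  intro a ha b hb hab
  by_contra hne'
  obtain ⟨c, hc⟩ := hN (z a b) (Finset.mem_image.mpr ⟨(a, b),
    Finset.mem_product.mpr ⟨htf.mem_toFinset.mpr ha, htf.mem_toFinset.mpr hb⟩, rfl⟩)
  have hca : c ∈ a.comap (Henz.ofB N).toRingHom := by
    show Henz.ofB N c ∈ a
    rw [hc]; exact (hz a ha b hb hne').1
  rw [show a.comap (Henz.ofB N).toRingHom = b.comap (Henz.ofB N).toRingHom from hab] at hca
  refine (hz a ha b hb hne').2 ?_
  rw [← hc]
  exact hca

theorem encard_minimalPrimes_map_equiv {S T : Type u} [CommRing S] [CommRing T] (e : S ≃+* T) (I : Ideal S) :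
    (I.map e.toRingHom).minimalPrimes.encard = I.minimalPrimes.encard := by
  rw [← encard_minimalPrimes_comap e.toRingHom e.surjective,
    Ideal.comap_map_of_bijective e.toRingHom e.bijective]

end relative

end Groth.Agent.BrnchNbhd
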