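import Groth.Agent.BrnchNbhd.Scheme
import Groth.Agent.BrnchNbhd.Quot
import Groth.Agent.FlatDvr.FibreStalk

/-! Branch numbers of fibres as suprema of component counts over etale neighbourhoods. -/

set_option autoImplicit false
set_option backward.isDefEq.respectTransparency.types false
noncomputable section

universe u

open CategoryTheory AlgebraicGeometry

namespace Groth.Agent.BrnchNbhd

theorem encard_fibre_components {U S : Scheme.{u}} (h : U ⟶ S) (s : S) {B : CommRingCat.{u}}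
    (j : Spec B ⟶ U) [IsOpenImmersion j] (P : Spec B) (hP : h (j P) = s) (I : Ideal B)
    (h1 : ∀ z : Spec B, h (j z) = s → I ≤ PrimeSpectrum.asIdeal z)
    (h2 : ∀ z : Spec B, PrimeSpectrum.asIdeal z ≤ PrimeSpectrum.asIdeal P → I ≤ PrimeSpectrum.asIdeal z → h (j z) = s) :
    {Z : Set ↥(h.fiber s) | Z ∈ irreducibleComponents ↥(h.fiber s) ∧ ∃ u' ∈ Z, h.fiberι s u' = j P}.encard =
      {q : Ideal B | q ∈ I.minimalPrimes ∧ q ≤ PrimeSpectrum.asIdeal P}.encard := by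
  have hι := (h.fiberι s).isEmbedding
  obtain ⟨w, hw⟩ : j P ∈ Set.range (h.fiberι s) := by
    rw [Scheme.Hom.range_fiberι]; exact hP
  have hle : ∀ z z' : Spec B, PrimeSpectrum.asIdeal z ≤ PrimeSpectrum.asIdeal z' ↔ j z ⤳ j z' := fun z z' => by
    rw [PrimeSpectrum.asIdeal_le_asIdeal, PrimeSpectrum.le_iff_specializes]
    exact j.isOpenEmbedding.isInducing.specializes_iff.symm
  have hfib : ∀ ξ, h (h.fiberι s ξ) = s := fun ξ => by
    have : h.fiberι s ξ ∈ Set.range (h.fiberι s) := ⟨ξ, rfl⟩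
    rwa [Scheme.Hom.range_fiberι] at this
  have hlift : ∀ ξ : ↥(h.fiber s), h.fiberι s ξ ⤳ j P → ∃ z, j z = h.fiberι s ξ := fun ξ hξ =>
    hξ.mem_open j.isOpenEmbedding.isOpen_range ⟨P, rfl⟩
  let T : Set (Spec B) := {z | PrimeSpectrum.asIdeal z ∈ I.minimalPrimes ∧
    PrimeSpectrum.asIdeal z ≤ PrimeSpectrum.asIdeal P}
  have hS : (h.fiberι s) '' {ξ : ↥(h.fiber s) | ξ ∈ genericPoints ↥(h.fiber s) ∧ ξ ⤳ w} = j '' T := by
    ext y
    constructor
    · rintro ⟨ξ, ⟨hξ, hs⟩, rfl⟩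
      have hsP : h.fiberι s ξ ⤳ j P := hw ▸ hι.isInducing.specializes_iff.mpr hs
      obtain ⟨z, hz⟩ := hlift ξ hsP
      refine ⟨z, ⟨⟨⟨z.2, h1 z (by rw [hz]; exact hfib ξ)⟩, fun J hJ hJz => ?_⟩, (hle z P).mpr (hz ▸ hsP)⟩, hz⟩
      let z' : Spec B := (⟨J, hJ.1⟩ : PrimeSpectrum B)
      have hzP : PrimeSpectrum.asIdeal z ≤ PrimeSpectrum.asIdeal P := (hle z P).mpr (hz ▸ hsP)
      obtain ⟨ξ', hξ'⟩ : j z' ∈ Set.range (h.fiberι s) := by
        rw [Scheme.Hom.range_fiberι]; exact h2 z' (hJz.trans hzP) hJ.2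
      have : ξ' = ξ := (RadPtUnib.mem_genericPoints_iff ξ).mp hξ ξ'
        (hι.isInducing.specializes_iff.mp (by rw [hξ', ← hz]; exact (hle z' z).mp hJz))
      have e : z' = z := j.isOpenEmbedding.injective (by rw [← hξ', this, hz])
      exact (congrArg PrimeSpectrum.asIdeal e).ge
    · rintro ⟨z, ⟨hz, hzP⟩, rfl⟩
      obtain ⟨ξ, hξ⟩ : j z ∈ Set.range (h.fiberι s) := by
        rw [Scheme.Hom.range_fiberι]; exact h2 z hzP hz.1.2
      have hsw : ξ ⤳ w := hι.isInducing.specializes_iff.mp (by rw [hξ, hw]; exact (hle z P).mp hzP)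
      refine ⟨ξ, ⟨(RadPtUnib.mem_genericPoints_iff ξ).mpr fun ξ' hξ' => ?_, hsw⟩, hξ⟩
      have hs' : h.fiberι s ξ' ⤳ j z := hξ ▸ hι.isInducing.specializes_iff.mpr hξ'
      obtain ⟨z', hz'⟩ := hlift ξ' (hs'.trans ((hle z P).mp hzP))
      have hle' : PrimeSpectrum.asIdeal z' ≤ PrimeSpectrum.asIdeal z := (hle z' z).mpr (hz'.symm ▸ hs')
      have e : z' = z := PrimeSpectrum.ext (le_antisymm hle' (hz.2 ⟨z'.2, h1 z' (by rw [hz']; exact hfib ξ')⟩ hle'))
      exact hι.injective (by rw [hξ, ← hz', e])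
  have hset : {Z : Set ↥(h.fiber s) | Z ∈ irreducibleComponents ↥(h.fiber s) ∧ ∃ u' ∈ Z, h.fiberι s u' = j P} =
      {Z : Set ↥(h.fiber s) | Z ∈ irreducibleComponents ↥(h.fiber s) ∧ w ∈ Z} := by
    ext Z
    refine and_congr_right fun _ => ⟨?_, fun hwZ => ⟨w, hwZ, hw⟩⟩
    rintro ⟨u', hu', e⟩
    rwa [← hι.injective (e.trans hw.symm)]
  rw [hset, encard_components w, ← (hι.injective.injOn).encard_image, hS, (j.isOpenEmbedding.injective.injOn).encard_image]
  refine Set.encard_congr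
    { toFun := fun z => ⟨PrimeSpectrum.asIdeal z.1, z.2⟩
      invFun := fun q => ⟨(⟨q.1, q.2.1.1.1⟩ : PrimeSpectrum B), q.2⟩
      left_inv := fun z => rfl
      right_inv := fun q => rfl }

/-- Points of an affine chart over the base point, in terms of primes. -/
theorem fromSpec_point_iff {U S : Scheme.{u}} (h : U ⟶ S) {S0 : S.Opens} (hS0 : IsAffineOpen S0) {W : U.Opens}
    (hW : IsAffineOpen W) (e : W ≤ h ⁻¹ᵁ S0) (z : PrimeSpectrum Γ(U, W)) {s : S} (hs : s ∈ S0) :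
    h (hW.fromSpec z) = s ↔
      z.asIdeal.comap (h.appLE S0 W e).hom = (hS0.primeIdealOf ⟨s, hs⟩).asIdeal := by
  have hz := RadPtUnib.fromSpec_mem hW z
  have hc : (hW.primeIdealOf ⟨hW.fromSpec z, hz⟩).asIdeal.comap (h.appLE S0 W e).hom =
      (hS0.primeIdealOf ⟨h (hW.fromSpec z), e hz⟩).asIdeal :=
    congr($(IsAffineOpen.comap_primeIdealOf_appLE S0 hS0 W hW e hz).1)
  rw [RadPtUnib.primeIdealOf_fromSpec hW z hz] at hc
  rw [hc]
  exact ⟨fun h' => by subst h'; rfl, fun h' => RadPtUnib.eq_of_primeIdealOf_eq hS0 _ _ h'⟩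

variable {X S : Scheme.{u}} (f : X ⟶ S) {x : X} {S0 : S.Opens} (hS0 : IsAffineOpen S0) {V : X.Opens}
  (hV : IsAffineOpen V) (e : V ≤ f ⁻¹ᵁ S0) (hx : x ∈ V)

/-- The ideal of the fibre in a chart. -/
abbrev fibreIdeal : Ideal Γ(X, V) :=
  (hS0.primeIdealOf ⟨f x, e hx⟩).asIdeal.map (f.appLE S0 V e).hom

theorem map_fibreIdeal_stalk :
    (fibreIdeal f hS0 e hx).map (X.presheaf.germ V x hx).hom =
      (IsLocalRing.maximalIdeal (S.presheaf.stalk (f x))).map (f.stalkMap x).hom := by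
  letI : Algebra Γ(S, S0) (S.presheaf.stalk (f x)) := TopCat.Presheaf.algebra_section_stalk S.presheaf (⟨f x, e hx⟩ : S0)
  haveI : IsLocalization.AtPrime (S.presheaf.stalk (f x)) (hS0.primeIdealOf ⟨f x, e hx⟩).asIdeal :=
    hS0.isLocalization_stalk ⟨f x, e hx⟩
  unfold fibreIdeal
  rw [← IsLocalization.AtPrime.map_eq_maximalIdeal (hS0.primeIdealOf ⟨f x, e hx⟩).asIdeal (S.presheaf.stalk (f x)),
    Ideal.map_map, Ideal.map_map]
  congr 1
  ext a
  show X.presheaf.germ V x hx (f.appLE S0 V e a) = f.stalkMap x (S.presheaf.germ S0 (f x) (e hx) a)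
  rw [Scheme.Hom.germ_stalkMap_apply]
  exact TopCat.Presheaf.germ_res_apply X.presheaf (homOfLE e) x hx _

include hV in
theorem encard_fibre_le_of_etale {s : S} (hs : f x = s) {U : Scheme.{u}} (g : U ⟶ X) [Etale g] (w : U) (hw : g w = x)
    (L : Type u) [Field L] [Algebra (X.residueField (g w)) L] [Algebra Γ(X, V) L]
    (hL : ∀ r, algebraMap Γ(X, V) L r = algebraMap (X.residueField (g w)) L (X.evaluation V (g w) (hw ▸ hx) r))
    (ι : U.residueField w →+* L) (hι : ∀ a, ι (g.residueFieldMap w a) = algebraMap _ L a) :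
    {Z : Set ↥((g ≫ f).fiber s) | Z ∈ irreducibleComponents ↥((g ≫ f).fiber s) ∧
        ∃ u' ∈ Z, (g ≫ f).fiberι s u' = w}.encard ≤
      ((fibreIdeal f hS0 e hx).map (algebraMap Γ(X, V) (Hensel.Henz Γ(X, V) L))).minimalPrimes.encard := by
  subst hs
  obtain ⟨W, hW, hwW, hWV⟩ := exists_isAffineOpen_mem_and_subset (x := w) (U := g ⁻¹ᵁ V) (show g w ∈ V from hw ▸ hx)
  have e' : W ≤ g ⁻¹ᵁ V := hWV
  have eS : W ≤ (g ≫ f) ⁻¹ᵁ S0 := fun y hy => e (e' hy)
  letI : Algebra Γ(X, V) Γ(U, W) := (g.appLE V W e').hom.toAlgebra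
  haveI : Algebra.Etale Γ(X, V) Γ(U, W) :=
    (HasRingHomProperty.appLE (P := @Etale) g ‹_› ⟨V, hV⟩ ⟨W, hW⟩ e' : (g.appLE V W e').hom.Etale)
  let τ : Γ(U, W) →ₐ[Γ(X, V)] L :=
    { ι.comp (U.evaluation W w hwW).hom with
      commutes' := fun r => by
        show ι (U.evaluation W w hwW (g.appLE V W e' r)) = _
        rw [hL, ← hι, Scheme.evaluation_naturality_apply]
        congr 1
        exact evaluation_map e' w hwW _ }
  have hρ : ((g ≫ f).appLE S0 W eS).hom = (algebraMap Γ(X, V) Γ(U, W)).comp (f.appLE S0 V e).hom := by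
    rw [← Scheme.Hom.appLE_comp_appLE g f S0 V W e e']
    rfl
  have hwP : (g ≫ f) w = f x := congrArg f hw
  have hP0 := (fromSpec_point_iff (g ≫ f) hS0 hW eS (hW.primeIdealOf ⟨w, hwW⟩) (e hx)).mp
    (by rw [hW.fromSpec_primeIdealOf]; exact hwP)
  have key := encard_fibre_components (g ≫ f) (f x) hW.fromSpec (hW.primeIdealOf ⟨w, hwW⟩)
    (by rw [hW.fromSpec_primeIdealOf]; exact hwP)
    ((fibreIdeal f hS0 e hx).map (algebraMap Γ(X, V) Γ(U, W)))
    (fun z hz => by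
      unfold fibreIdeal
      rw [Ideal.map_map, ← hρ, Ideal.map_le_iff_le_comap]
      exact ((fromSpec_point_iff (g ≫ f) hS0 hW eS z (e hx)).mp hz).ge)
    (fun z hzP hz => by
      rw [fromSpec_point_iff (g ≫ f) hS0 hW eS z (e hx)]
      unfold fibreIdeal at hz
      rw [Ideal.map_map, ← hρ, Ideal.map_le_iff_le_comap] at hz
      exact le_antisymm (hP0 ▸ Ideal.comap_mono hzP) hz)
  rw [hW.fromSpec_primeIdealOf] at key
  rw [key]
  refine le_of_eq_of_le ?_ (encard_le_ideal (fibreIdeal f hS0 e hx) τ)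
  have hτ : RingHom.ker τ = (hW.primeIdealOf ⟨w, hwW⟩).asIdeal := by
    ext a
    rw [RingHom.mem_ker, ← RadPtUnib.evaluation_eq_zero_iff hW hwW]
    exact map_eq_zero ι
  rw [hτ]

include hV in
theorem exists_etale_of_nbhd_fibre {s : S} (hs : f x = s)
    (L : Type u) [Field L] [Algebra (X.residueField x) L] [Algebra Γ(X, V) L]
    (hL : ∀ r, algebraMap Γ(X, V) L r = algebraMap (X.residueField x) L (X.evaluation V x hx r))
    (N : Hensel.Nbhd Γ(X, V) L) :
    ∃ (U : Scheme.{u}) (g : U ⟶ X) (w : U), Etale g ∧ g w = x ∧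
      {Z : Set ↥((g ≫ f).fiber s) | Z ∈ irreducibleComponents ↥((g ≫ f).fiber s) ∧
        ∃ u' ∈ Z, (g ≫ f).fiberι s u' = w}.encard =
        {q : Ideal N.B | q ∈ ((fibreIdeal f hS0 e hx).map (algebraMap Γ(X, V) N.B)).minimalPrimes ∧
          q ≤ RingHom.ker N.toK}.encard ∧
      (Function.Bijective (algebraMap (X.residueField x) L) → Function.Bijective (g.residueFieldMap w)) := by
  subst hs
  let φ : Γ(X, V) ⟶ CommRingCat.of N.B := CommRingCat.ofHom (algebraMap Γ(X, V) N.B)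
  haveI : Etale (Spec.map φ) :=
    HasRingHomProperty.Spec_iff.mpr (RingHom.etale_algebraMap.mpr (inferInstance : Algebra.Etale Γ(X, V) N.B))
  let w : Spec (CommRingCat.of N.B) := (⟨RingHom.ker N.toK, RingHom.ker_isPrime _⟩ : PrimeSpectrum N.B)
  have hcomap : (PrimeSpectrum.asIdeal w).comap (algebraMap Γ(X, V) N.B) = (hV.primeIdealOf ⟨x, hx⟩).asIdeal := by
    ext r
    show N.toK (algebraMap _ _ r) = 0 ↔ _
    rw [AlgHom.commutes, hL, map_eq_zero, RadPtUnib.evaluation_eq_zero_iff hV hx]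
  have hpt : ∀ z : Spec (CommRingCat.of N.B), (Spec.map φ ≫ hV.fromSpec) z =
      hV.fromSpec (PrimeSpectrum.comap (algebraMap Γ(X, V) N.B) z) := fun z => rfl
  have hgw : (Spec.map φ ≫ hV.fromSpec) w = x := by
    rw [hpt, show PrimeSpectrum.comap (algebraMap Γ(X, V) N.B) w = hV.primeIdealOf ⟨x, hx⟩ from PrimeSpectrum.ext hcomap]
    exact hV.fromSpec_primeIdealOf ⟨x, hx⟩
  have hiff : ∀ z : Spec (CommRingCat.of N.B), ((Spec.map φ ≫ hV.fromSpec) ≫ f) z = f x ↔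
      ((PrimeSpectrum.asIdeal z).comap (algebraMap Γ(X, V) N.B)).comap (f.appLE S0 V e).hom =
        (hS0.primeIdealOf ⟨f x, e hx⟩).asIdeal := fun z => by
    show f ((Spec.map φ ≫ hV.fromSpec) z) = f x ↔ _
    rw [hpt]
    exact fromSpec_point_iff f hS0 hV e _ (e hx)
  have hP0 := (hiff w).mp (congrArg f hgw)
  refine ⟨Spec (CommRingCat.of N.B), Spec.map φ ≫ hV.fromSpec, w, inferInstance, hgw, ?_, fun hb => ?_⟩
  · exact encard_fibre_components ((Spec.map φ ≫ hV.fromSpec) ≫ f) (f x) (𝟙 _) w (congrArg f hgw)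
      ((fibreIdeal f hS0 e hx).map (algebraMap Γ(X, V) N.B))
      (fun z hz => by
        unfold fibreIdeal
        rw [Ideal.map_le_iff_le_comap, Ideal.map_le_iff_le_comap]
        exact ((hiff z).mp hz).ge)
      (fun z hzP hz => by
        refine (hiff z).mpr (le_antisymm (hP0 ▸ Ideal.comap_mono (Ideal.comap_mono hzP)) ?_)
        rw [← Ideal.map_le_iff_le_comap, ← Ideal.map_le_iff_le_comap]
        exact hz)
  · exact bijective_rfm_of_nbhd hV hx L hL N w rfl hcomap hb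

end Groth.Agent.BrnchNbhd
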