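import Groth.Agent.BrnchNbhd.Fibre

/-! The branch numbers of fibres. -/

set_option autoImplicit false
set_option backward.isDefEq.respectTransparency.types false
noncomputable section

universe u

open CategoryTheory AlgebraicGeometry

namespace Groth.Agent.BrnchNbhd

theorem evaluation_congr {X : Scheme.{u}} {x y : X} (h : x = y) (V : X.Opens) (hx : x ∈ V) :
    X.evaluation V x hx ≫ (X.residueFieldCongr h).hom = X.evaluation V y (h ▸ hx) := by
  subst h
  simp

variable {X S : Scheme.{u}} (f : X ⟶ S)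

theorem numBranchesAt_fibre_aux (s : S) (w : ↥(f.fiber s)) (x : X) (hw : f.fiberι s w = x) (hs : f x = s) :
    Brnch.numBranchesAt (f.fiber s) w = ⨆ (U : Scheme.{u}) (g : U ⟶ X) (u : U) (_ : Hens2.IsEtaleNbhd g u x),
      {Z : Set ↥((g ≫ f).fiber s) | Z ∈ irreducibleComponents ↥((g ≫ f).fiber s) ∧
        ∃ u' ∈ Z, (g ≫ f).fiberι s u' = u}.encard := by
  subst hw
  set x := f.fiberι s w with hxdef
  obtain ⟨S0, hS0, hxS0, -⟩ := exists_isAffineOpen_mem_and_subset (x := f x) (U := (⊤ : S.Opens)) trivial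
  obtain ⟨V, hV, hx, hVS⟩ := exists_isAffineOpen_mem_and_subset (x := x) (U := f ⁻¹ᵁ S0) hxS0
  have e : V ≤ f ⁻¹ᵁ S0 := hVS
  letI : Algebra Γ(X, V) (X.presheaf.stalk x) := TopCat.Presheaf.algebra_section_stalk X.presheaf (⟨x, hx⟩ : V)
  haveI : IsLocalization.AtPrime (X.presheaf.stalk x) (hV.primeIdealOf ⟨x, hx⟩).asIdeal :=
    hV.isLocalization_stalk ⟨x, hx⟩
  let A := X.presheaf.stalk x
  let L := IsLocalRing.ResidueField A
  obtain ⟨eH, heH⟩ := exists_henz_equiv (R := Γ(X, V)) (hV.primeIdealOf ⟨x, hx⟩).asIdeal A L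
  have hker : RingHom.ker ((f.fiberι s).stalkMap w).hom =
      (fibreIdeal f hS0 e hx).map (algebraMap Γ(X, V) A) :=
    (FlatDvr.ker_stalkMap_fiberι f w).trans (map_fibreIdeal_stalk f hS0 e hx).symm
  have hcard : Brnch.numBranchesAt (f.fiber s) w =
      ((fibreIdeal f hS0 e hx).map (algebraMap Γ(X, V) (Hensel.Henz Γ(X, V) L))).minimalPrimes.encard := by
    refine (numBranches_eq_of_surjective ((f.fiberι s).stalkMap w).hom
      ((f.fiberι s).stalkMap_surjective w)).trans ?_
    rw [← encard_minimalPrimes_map_equiv eH, Ideal.map_map]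
    refine congrArg (fun I : Ideal _ => I.minimalPrimes.encard) ?_
    rw [show eH.toRingHom.comp (algebraMap Γ(X, V) (Hensel.Henz Γ(X, V) L)) =
      (algebraMap A (Hensel.Henz A L)).comp (algebraMap Γ(X, V) A) from RingHom.ext heH, ← Ideal.map_map]
    exact congrArg (Ideal.map _) hker
  have hL : ∀ r, algebraMap Γ(X, V) L r = X.evaluation V x hx r := fun r => rfl
  rw [hcard]
  refine le_antisymm ((card_le_iSup_ideal _).trans (iSup_le fun N => ?_))
    (iSup_le fun U => iSup_le fun g => iSup_le fun v => iSup_le fun h => ?_)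
  · letI : Algebra (X.residueField x) L := Algebra.id (X.residueField x)
    obtain ⟨U, g, v, hg, hgv, hcd, hb⟩ := exists_etale_of_nbhd_fibre f hS0 hV e hx hs L (fun r => hL r) N
    rw [← hcd]
    exact le_iSup_of_le U (le_iSup_of_le g (le_iSup_of_le v
      (le_iSup_of_le ⟨hg, hgv, hb Function.bijective_id⟩ le_rfl)))
  · obtain ⟨hg, hgv, hb⟩ := h
    let t := (X.residueFieldCongr (show g v = x from hgv)).hom.hom
    letI : Algebra (X.residueField (g v)) L := t.toAlgebra
    refine encard_fibre_le_of_etale f hS0 hV e hx hs g v hgv L (fun r => ?_)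
      (t.comp (RingEquiv.ofBijective _ hb).symm.toRingHom) fun a => congrArg t ((RingEquiv.ofBijective _ hb).symm_apply_apply a)
    rw [hL]
    exact (congr($(evaluation_congr (X := X) (show g v = x from hgv) V (hgv ▸ hx)) r)).symm

theorem numGeomBranchesAt_fibre_aux (s : S) (w : ↥(f.fiber s)) (x : X) (hw : f.fiberι s w = x) (hs : f x = s) :
    Brnch.numGeomBranchesAt (f.fiber s) w = ⨆ (U : Scheme.{u}) (g : U ⟶ X) (u : U) (_ : Etale g ∧ g u = x),
      {Z : Set ↥((g ≫ f).fiber s) | Z ∈ irreducibleComponents ↥((g ≫ f).fiber s) ∧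
        ∃ u' ∈ Z, (g ≫ f).fiberι s u' = u}.encard := by
  subst hw
  set x := f.fiberι s w with hxdef
  obtain ⟨S0, hS0, hxS0, -⟩ := exists_isAffineOpen_mem_and_subset (x := f x) (U := (⊤ : S.Opens)) trivial
  obtain ⟨V, hV, hx, hVS⟩ := exists_isAffineOpen_mem_and_subset (x := x) (U := f ⁻¹ᵁ S0) hxS0
  have e : V ≤ f ⁻¹ᵁ S0 := hVS
  letI : Algebra Γ(X, V) (X.presheaf.stalk x) := TopCat.Presheaf.algebra_section_stalk X.presheaf (⟨x, hx⟩ : V)
  haveI : IsLocalization.AtPrime (X.presheaf.stalk x) (hV.primeIdealOf ⟨x, hx⟩).asIdeal :=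
    hV.isLocalization_stalk ⟨x, hx⟩
  let A := X.presheaf.stalk x
  let L := SeparableClosure (IsLocalRing.ResidueField A)
  letI : Algebra Γ(X, V) L := ((algebraMap A L).comp (algebraMap Γ(X, V) A)).toAlgebra
  haveI : IsScalarTower Γ(X, V) A L := .of_algebraMap_eq fun r => rfl
  obtain ⟨eH, heH⟩ := exists_henz_equiv (R := Γ(X, V)) (hV.primeIdealOf ⟨x, hx⟩).asIdeal A L
  have hker : RingHom.ker ((f.fiberι s).stalkMap w).hom =
      (fibreIdeal f hS0 e hx).map (algebraMap Γ(X, V) A) :=
    (FlatDvr.ker_stalkMap_fiberι f w).trans (map_fibreIdeal_stalk f hS0 e hx).symm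
  have hcard : Brnch.numGeomBranchesAt (f.fiber s) w =
      ((fibreIdeal f hS0 e hx).map (algebraMap Γ(X, V) (Hensel.Henz Γ(X, V) L))).minimalPrimes.encard := by
    refine (numGeomBranches_eq_of_surjective ((f.fiberι s).stalkMap w).hom
      ((f.fiberι s).stalkMap_surjective w)).trans ?_
    rw [← encard_minimalPrimes_map_equiv eH, Ideal.map_map]
    refine congrArg (fun I : Ideal _ => I.minimalPrimes.encard) ?_
    rw [show eH.toRingHom.comp (algebraMap Γ(X, V) (Hensel.Henz Γ(X, V) L)) =
      (algebraMap A (Hensel.Henz A L)).comp (algebraMap Γ(X, V) A) from RingHom.ext heH, ← Ideal.map_map]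
    exact congrArg (Ideal.map _) hker
  have hL : ∀ r, algebraMap Γ(X, V) L r =
      algebraMap (IsLocalRing.ResidueField A) L (X.evaluation V x hx r) := fun r => rfl
  rw [hcard]
  refine le_antisymm ((card_le_iSup_ideal _).trans (iSup_le fun N => ?_))
    (iSup_le fun U => iSup_le fun g => iSup_le fun v => iSup_le fun h => ?_)
  · letI : Algebra (X.residueField x) L := (inferInstance : Algebra (IsLocalRing.ResidueField A) L)
    obtain ⟨U, g, v, hg, hgv, hcd, -⟩ := exists_etale_of_nbhd_fibre f hS0 hV e hx hs L hL N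
    rw [← hcd]
    exact le_iSup_of_le U (le_iSup_of_le g (le_iSup_of_le v (le_iSup_of_le ⟨hg, hgv⟩ le_rfl)))
  · obtain ⟨hg, hgv⟩ := h
    let t : X.residueField (g v) →+* L :=
      (algebraMap (IsLocalRing.ResidueField A) L).comp (X.residueFieldCongr (show g v = x from hgv)).hom.hom
    letI : Algebra (X.residueField (g v)) L := t.toAlgebra
    letI : Algebra (X.residueField (g v)) (U.residueField v) := (g.residueFieldMap v).hom.toAlgebra
    haveI : Algebra.IsSeparable (X.residueField (g v)) (U.residueField v) :=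
      inferInstanceAs (letI : Algebra (X.residueField (g v)) (U.residueField v) :=
        (g.residueFieldMap v).hom.toAlgebra; Algebra.IsSeparable (X.residueField (g v)) (U.residueField v))
    haveI : IsSepClosed L := inferInstanceAs (IsSepClosed (SeparableClosure (IsLocalRing.ResidueField A)))
    let ι : U.residueField v →ₐ[X.residueField (g v)] L := IsSepClosed.lift
    refine encard_fibre_le_of_etale f hS0 hV e hx hs g v hgv L (fun r => ?_) ι.toRingHom fun a => ι.commutes a
    rw [hL]
    exact congrArg (algebraMap (IsLocalRing.ResidueField A) L)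
      (congr($(evaluation_congr (X := X) (show g v = x from hgv) V (hgv ▸ hx)) r)).symm

end Groth.Agent.BrnchNbhd
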