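import Groth.Agent.BrnchNbhd.Scheme
import Groth.Agent.UnibEtale.Chart
import Groth.Agent.S2135
import Groth.Agent.Hensel.HenselizationDescent
import Mathlib.RingTheory.Ideal.Height
import Mathlib.RingTheory.Ideal.MinimalPrime.Noetherian

/-! Geometric unibranchness and connectedness of punctured spectra. -/

set_option autoImplicit false
set_option backward.isDefEq.respectTransparency.types false

universe u

open IsLocalRing CategoryTheory AlgebraicGeometry

namespace Groth.Agent.BrnchNbhd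

open Groth.Agent.Hensel

/-- At a prime over a geometrically unibranch prime of the base there is only one minimal prime. -/
theorem unique_minimal_below {R L : Type u} [CommRing R] [Field L] [Algebra R L] (p : Ideal R) [p.IsPrime]
    (hp : CAlg2.IsGeomUnibranch (Localization.AtPrime p))
    (Q : Ideal (Henz R L)) [Q.IsPrime] (hQ : Q.comap (algebraMap R (Henz R L)) = p)
    {q₁ q₂ : Ideal (Henz R L)} (h₁ : q₁ ∈ minimalPrimes (Henz R L)) (h₂ : q₂ ∈ minimalPrimes (Henz R L))
    (hle₁ : q₁ ≤ Q) (hle₂ : q₂ ≤ Q) : q₁ = q₂ := by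
  by_contra hne
  obtain ⟨z, hz1, hz2⟩ : ∃ z, z ∈ q₁ ∧ z ∉ q₂ := by
    by_contra! h
    exact hne (le_antisymm h (h₂.2 h₁.1 h))
  obtain ⟨N, hN⟩ := exists_common (L := L) ({z} : Finset (Henz R L))
  obtain ⟨b, hb⟩ := hN z (Finset.mem_singleton_self z)
  obtain ⟨h, -⟩ := comap_mem_and_exists (L := L) (Henz.ofB N)
  let Q' : Ideal N.B := Q.comap (Henz.ofB N).toRingHom
  haveI : Q'.IsPrime := Ideal.IsPrime.comap _
  have hQ' : Q'.comap (algebraMap R N.B) = p := by
    rw [Ideal.comap_comap, AlgHom.toRingHom_eq_coe, AlgHom.comp_algebraMap, hQ]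
  obtain ⟨hg, -⟩ := UnibEtale.atPrime_of_etale R N.B p Q' hQ' hp
  have hn : (nilradical (Localization.AtPrime Q')).IsPrime := (Ideal.Quotient.isDomain_iff_prime _).1 hg.1.1
  have key : ∀ r ∈ minimalPrimes N.B, r ≤ Q' →
      r = (nilradical (Localization.AtPrime Q')).comap (algebraMap N.B (Localization.AtPrime Q')) := by
    intro r hr hrQ
    haveI := hr.1.1
    have hd : Disjoint (Q'.primeCompl : Set N.B) (r : Set N.B) :=
      Set.disjoint_left.mpr fun a ha har => ha (hrQ har)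
    have e1 := IsLocalization.comap_map_of_isPrime_disjoint Q'.primeCompl (Localization.AtPrime Q') inferInstance hd
    haveI := IsLocalization.isPrime_of_isPrime_disjoint Q'.primeCompl (Localization.AtPrime Q') r inferInstance hd
    have e2 := Ideal.comap_mono (f := algebraMap N.B (Localization.AtPrime Q'))
      (nilradical_le_prime (r.map (algebraMap N.B (Localization.AtPrime Q'))))
    rw [Ideal.under_def] at e1
    rw [e1] at e2
    exact le_antisymm (hr.2 ⟨haveI := hn; Ideal.IsPrime.comap _, bot_le⟩ e2) e2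
  have e : q₁.comap (Henz.ofB N).toRingHom = q₂.comap (Henz.ofB N).toRingHom :=
    (key _ (h q₁ h₁).1 (Ideal.comap_mono hle₁)).trans (key _ (h q₂ h₂).1 (Ideal.comap_mono hle₂)).symm
  exact hz2 (hb ▸ (e.le (show b ∈ q₁.comap (Henz.ofB N).toRingHom by show Henz.ofB N b ∈ q₁; rw [hb]; exact hz1)))

/-- In a connected punctured spectrum two minimal primes chain through non-closed points. -/
theorem exists_common_point {H : Type u} [CommRing H] [IsLocalRing H] [IsNoetherianRing H]
    (hc : _root_.IsPreconnected ({closedPoint H}ᶜ : Set (PrimeSpectrum H)))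
    {q q₀ : Ideal H} (hq : q ∈ minimalPrimes H) (hq₀ : q₀ ∈ minimalPrimes H) (hne : q ≠ q₀)
    (hq' : q ≠ maximalIdeal H) (hq₀' : q₀ ≠ maximalIdeal H) :
    ∃ Q : Ideal H, Q.IsPrime ∧ Q ≠ maximalIdeal H ∧ q ≤ Q ∧ ∃ r ∈ minimalPrimes H, r ≠ q ∧ r ≤ Q := by
  let F : Set (PrimeSpectrum H) := ⋃ r ∈ minimalPrimes H \ {q}, PrimeSpectrum.zeroLocus (r : Set H)
  have hF : IsClosed F := (minimalPrimes.finite_of_isNoetherianRing H).sdiff.isClosed_biUnion
    fun r _ => PrimeSpectrum.isClosed_zeroLocus _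
  have hcov : ({closedPoint H}ᶜ : Set (PrimeSpectrum H)) ⊆ PrimeSpectrum.zeroLocus (q : Set H) ∪ F := by
    intro z _
    obtain ⟨r, hr, hle⟩ := Ideal.exists_minimalPrimes_le (I := (⊥ : Ideal H)) (J := z.asIdeal) bot_le
    rcases eq_or_ne r q with rfl | hrq
    · exact Or.inl hle
    · exact Or.inr (Set.mem_biUnion (x := r) ⟨hr, hrq⟩ hle)
  have hcl : ∀ r : Ideal H, ∀ hr : r.IsPrime, r ≠ maximalIdeal H →
      (⟨r, hr⟩ : PrimeSpectrum H) ∈ ({closedPoint H}ᶜ : Set (PrimeSpectrum H)) :=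
    fun r hr h e => h (congrArg PrimeSpectrum.asIdeal e)
  obtain ⟨z, hzT, hzq, hzF⟩ := (isPreconnected_closed_iff.mp hc) _ _ (PrimeSpectrum.isClosed_zeroLocus _) hF hcov
    ⟨⟨q, hq.1.1⟩, hcl q hq.1.1 hq', le_refl q⟩
    ⟨⟨q₀, hq₀.1.1⟩, hcl q₀ hq₀.1.1 hq₀', Set.mem_biUnion (x := q₀) ⟨hq₀, hne.symm⟩ (le_refl q₀)⟩
  obtain ⟨r, ⟨hr, hrq⟩, hrz⟩ := Set.mem_iUnion₂.mp hzF
  exact ⟨z.asIdeal, z.2, fun e => hzT (PrimeSpectrum.ext e), hzq, r, hr, hrq, hrz⟩

theorem isGeomUnibranch_of_connected (X : Scheme.{u}) [IsLocallyNoetherian X]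
    (h : ∀ (x : X), closure ({x} : Set X) ∉ irreducibleComponents X →
        ∀ (Ash : Type u) [CommRing Ash] [IsLocalRing Ash] [Algebra (X.presheaf.stalk x) Ash]
          [IsLocalHom (algebraMap (X.presheaf.stalk x) Ash)]
          [_root_.Hensel.IsStrictHenselization (X.presheaf.stalk x) Ash],
          ConnectedSpace ↥({IsLocalRing.closedPoint Ash}ᶜ : Set (PrimeSpectrum Ash)))
    (x₀ : X) : CAlg2.IsGeomUnibranch (X.presheaf.stalk x₀) := by
  obtain ⟨V, hV, hx₀, -⟩ := exists_isAffineOpen_mem_and_subset (x := x₀) (U := (⊤ : X.Opens)) trivial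
  haveI : IsNoetherianRing Γ(X, V) := IsLocallyNoetherian.component_noetherian ⟨V, hV⟩
  suffices key : ∀ n : ℕ, ∀ x : X, ∀ hx : x ∈ V, (hV.primeIdealOf ⟨x, hx⟩).asIdeal.height ≤ n →
      CAlg2.IsGeomUnibranch (X.presheaf.stalk x) by
    haveI := (hV.primeIdealOf ⟨x₀, hx₀⟩).2
    obtain ⟨n, hn⟩ := ENat.ne_top_iff_exists.mp (Ideal.height_ne_top (I := (hV.primeIdealOf ⟨x₀, hx₀⟩).asIdeal)
      (hV.primeIdealOf ⟨x₀, hx₀⟩).2.ne_top)
    exact key n x₀ hx₀ hn.ge
  intro n
  induction n using Nat.strong_induction_on with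
  | _ n IH =>
  intro x hx hn
  letI : Algebra Γ(X, V) (X.presheaf.stalk x) := TopCat.Presheaf.algebra_section_stalk X.presheaf (⟨x, hx⟩ : V)
  haveI : IsLocalization.AtPrime (X.presheaf.stalk x) (hV.primeIdealOf ⟨x, hx⟩).asIdeal :=
    hV.isLocalization_stalk ⟨x, hx⟩
  let P := (hV.primeIdealOf ⟨x, hx⟩).asIdeal
  haveI : P.IsPrime := (hV.primeIdealOf ⟨x, hx⟩).2
  let A := X.presheaf.stalk x
  haveI : IsNoetherianRing A := IsLocalization.isNoetherianRing P.primeCompl A inferInstance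
  let L := SeparableClosure (ResidueField A)
  let H := Hensel.StrictHenz A
  haveI : IsNoetherianRing H := isNoetherianRing_henz
  rw [Groth.Agent.S2135.result (Ash := H)]
  have hH : IsHenzLike A H := isHenzLike_of_isStrictHenselization A H
  have hmH : (maximalIdeal A).map (algebraMap A H) = maximalIdeal H := map_maximalIdeal_henz
  have hcm : (maximalIdeal H).comap (algebraMap A H) = maximalIdeal A := maximalIdeal_comap _
  have hover : ∀ Q : Ideal H, Q.IsPrime → Q.comap (algebraMap A H) = maximalIdeal A → Q = maximalIdeal H :=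
    fun Q hQ e => le_antisymm (le_maximalIdeal hQ.ne_top) (hmH ▸ Ideal.map_le_iff_le_comap.mpr e.ge)
  obtain ⟨q₀, hq₀⟩ : (minimalPrimes H).Nonempty :=
    (Ideal.exists_minimalPrimes_le (I := (⊥ : Ideal H)) (J := maximalIdeal H) bot_le).imp fun _ h => h.1
  refine ⟨q₀, hq₀, fun q hq => ?_⟩
  by_contra hne
  have hqm : ∀ r ∈ minimalPrimes H, r ≠ maximalIdeal H := by
    intro r hr e
    rcases eq_or_ne r q with rfl | hr'
    · haveI := hq₀.1.1
      exact hne (le_antisymm (hr.2 hq₀.1 (e ▸ le_maximalIdeal hq₀.1.1.ne_top)) (e ▸ le_maximalIdeal hq₀.1.1.ne_top))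
    · haveI := hq.1.1
      exact hr' (le_antisymm (hr.2 hq.1 (e ▸ le_maximalIdeal hq.1.1.ne_top)) (e ▸ le_maximalIdeal hq.1.1.ne_top))
  have hgen : closure ({x} : Set X) ∉ irreducibleComponents X := by
    intro hx'
    have hmin : P ∈ minimalPrimes Γ(X, V) := (RadPtUnib.minimal_iff hV hx).mpr hx'
    haveI := hq.1.1
    refine hqm q hq (hover q hq.1.1 ?_)
    refine le_antisymm (le_maximalIdeal (Ideal.IsPrime.comap _).ne_top) ?_
    have hP : (q.comap (algebraMap A H)).comap (algebraMap Γ(X, V) A) = P := by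
      have hle : (q.comap (algebraMap A H)).comap (algebraMap Γ(X, V) A) ≤ P := by
        refine (Ideal.comap_mono (le_maximalIdeal (Ideal.IsPrime.comap (algebraMap A H)).ne_top)).trans ?_
        exact (IsLocalization.AtPrime.comap_maximalIdeal A P).le
      exact le_antisymm hle (hmin.2 ⟨Ideal.IsPrime.comap _, bot_le⟩ hle)
    rw [← IsLocalization.AtPrime.map_eq_maximalIdeal P A, Ideal.map_le_iff_le_comap]
    exact hP.ge
  have hc := h x hgen H
  obtain ⟨Q, hQ, hQm, hqQ, r, hr, hrq, hrQ⟩ := exists_common_point (isPreconnected_iff_preconnectedSpace.mpr hc.toPreconnectedSpace)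
    hq hq₀ hne (hqm q hq) (hqm q₀ hq₀)
  haveI := hQ
  letI : Algebra Γ(X, V) L := ((algebraMap A L).comp (algebraMap Γ(X, V) A)).toAlgebra
  haveI : IsScalarTower Γ(X, V) A L := .of_algebraMap_eq fun r => rfl
  obtain ⟨e, he⟩ := exists_henz_equiv (R := Γ(X, V)) P A L
  let p : Ideal Γ(X, V) := (Q.comap (algebraMap A H)).comap (algebraMap Γ(X, V) A)
  haveI : p.IsPrime := Ideal.IsPrime.comap _
  have hQA : Q.comap (algebraMap A H) ≠ maximalIdeal A := fun e => hQm (hover Q hQ e)
  have hpP : p < P := by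
    refine lt_of_le_of_ne ((Ideal.comap_mono (le_maximalIdeal (Ideal.IsPrime.comap _).ne_top)).trans
      (IsLocalization.AtPrime.comap_maximalIdeal A P).le) fun ep => hQA ?_
    refine le_antisymm (le_maximalIdeal (Ideal.IsPrime.comap _).ne_top) ?_
    rw [← IsLocalization.AtPrime.map_eq_maximalIdeal P A, Ideal.map_le_iff_le_comap]
    exact ep.ge
  have hub : CAlg2.IsGeomUnibranch (Localization.AtPrime p) := by
    obtain ⟨y, hy, hyp⟩ := RadPtUnib.exists_point hV p inferInstance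
    haveI : (hV.primeIdealOf ⟨y, hy⟩).asIdeal.FiniteHeight := Ideal.finiteHeight_of_isNoetherianRing _
    have hlt : (hV.primeIdealOf ⟨y, hy⟩).asIdeal.height < P.height := by
      haveI : p.FiniteHeight := Ideal.finiteHeight_of_isNoetherianRing _
      rw [hyp]
      exact Ideal.height_strict_mono_of_isPrime hpP
    obtain ⟨m, hm⟩ := ENat.ne_top_iff_exists.mp (ne_top_of_lt (hlt.trans_le hn))
    have hmn : m < n := by
      have h' := hlt.trans_le hn
      rw [← hm] at h'
      exact_mod_cast h'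
    have hy' := IH m hmn y hy hm.ge
    have hb := UnibEtale.isGeomUnibranch_of_ringEquiv (UnibEtale.stalkEquiv hV hy) hy'
    exact (show ∀ (I : Ideal Γ(X, V)) [I.IsPrime], I = p → CAlg2.IsGeomUnibranch (Localization.AtPrime I) →
      CAlg2.IsGeomUnibranch (Localization.AtPrime p) from fun I _ h => by subst h; exact id) _ hyp hb
  have hQR : (Q.comap e.toRingHom).comap (algebraMap Γ(X, V) (Henz Γ(X, V) L)) = p := by
    rw [Ideal.comap_comap, show e.toRingHom.comp (algebraMap Γ(X, V) (Henz Γ(X, V) L)) =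
      (algebraMap A H).comp (algebraMap Γ(X, V) A) from RingHom.ext he, ← Ideal.comap_comap]
  have hmem : ∀ s ∈ minimalPrimes H, s.comap e.toRingHom ∈ minimalPrimes (Henz Γ(X, V) L) := fun s hs => by
    show s.comap e.toRingHom ∈ (⊥ : Ideal (Henz Γ(X, V) L)).minimalPrimes
    rw [show (⊥ : Ideal (Henz Γ(X, V) L)) = (⊥ : Ideal H).comap e.toRingHom from
      ((RingHom.ker_eq_comap_bot _).symm.trans ((RingHom.injective_iff_ker_eq_bot _).mp e.injective)).symm,
      Ideal.comap_minimalPrimes_eq_of_surjective e.surjective]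
    exact ⟨s, hs, rfl⟩
  exact hrq (Ideal.comap_injective_of_surjective e.toRingHom e.surjective
    (unique_minimal_below p hub (Q.comap e.toRingHom) hQR (hmem r hr) (hmem q hq) (Ideal.comap_mono hrQ)
      (Ideal.comap_mono hqQ)))

theorem connected_of_isGeomUnibranch {X : Scheme.{u}} {x : X} (hx : closure ({x} : Set X) ∉ irreducibleComponents X)
    (hu : CAlg2.IsGeomUnibranch (X.presheaf.stalk x))
    (Ash : Type u) [CommRing Ash] [IsLocalRing Ash] [Algebra (X.presheaf.stalk x) Ash]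
    [IsLocalHom (algebraMap (X.presheaf.stalk x) Ash)]
    [_root_.Hensel.IsStrictHenselization (X.presheaf.stalk x) Ash] :
    ConnectedSpace ↥({IsLocalRing.closedPoint Ash}ᶜ : Set (PrimeSpectrum Ash)) := by
  obtain ⟨q, hq, hu'⟩ := (Groth.Agent.S2135.result (Ash := Ash)).mp hu
  haveI := hq.1.1
  have hqm : q ≠ maximalIdeal Ash := by
    intro e
    refine hx ?_
    obtain ⟨V, hV, hxV, -⟩ := exists_isAffineOpen_mem_and_subset (x := x) (U := (⊤ : X.Opens)) trivial
    letI : Algebra Γ(X, V) (X.presheaf.stalk x) := TopCat.Presheaf.algebra_section_stalk X.presheaf (⟨x, hxV⟩ : V)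
    haveI : IsLocalization.AtPrime (X.presheaf.stalk x) (hV.primeIdealOf ⟨x, hxV⟩).asIdeal :=
      hV.isLocalization_stalk ⟨x, hxV⟩
    haveI := (hV.primeIdealOf ⟨x, hxV⟩).2
    refine (RadPtUnib.minimal_iff hV hxV).mp ?_
    have hH := isHenzLike_of_isStrictHenselization (X.presheaf.stalk x) Ash
    have hmin : maximalIdeal (X.presheaf.stalk x) ∈ minimalPrimes (X.presheaf.stalk x) := by
      have h := (BrnchLib.mem_minimalPrimes_iff_comap hH (q := q)).mp hq
      rwa [e, IsLocalRing.maximalIdeal_comap] at h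
    refine ⟨⟨inferInstance, bot_le⟩, fun J hJ hJP => ?_⟩
    haveI := hJ.1
    have hd : Disjoint ((hV.primeIdealOf ⟨x, hxV⟩).asIdeal.primeCompl : Set Γ(X, V)) (J : Set Γ(X, V)) :=
      Set.disjoint_left.mpr fun a ha haJ => ha (hJP haJ)
    haveI := IsLocalization.isPrime_of_isPrime_disjoint (hV.primeIdealOf ⟨x, hxV⟩).asIdeal.primeCompl
      (X.presheaf.stalk x) J inferInstance hd
    have h1 := hmin.2 ⟨inferInstance, bot_le⟩
      (le_maximalIdeal (J := J.map (algebraMap Γ(X, V) (X.presheaf.stalk x))) (Ideal.IsPrime.ne_top'))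
    have h2 := Ideal.comap_mono (f := algebraMap Γ(X, V) (X.presheaf.stalk x)) h1
    have e3 : (maximalIdeal (X.presheaf.stalk x)).comap (algebraMap Γ(X, V) (X.presheaf.stalk x)) =
        (hV.primeIdealOf ⟨x, hxV⟩).asIdeal :=
      IsLocalization.AtPrime.comap_maximalIdeal (X.presheaf.stalk x) (hV.primeIdealOf ⟨x, hxV⟩).asIdeal
    have e4 : (J.map (algebraMap Γ(X, V) (X.presheaf.stalk x))).comap (algebraMap Γ(X, V) (X.presheaf.stalk x)) = J :=
      IsLocalization.comap_map_of_isPrime_disjoint (hV.primeIdealOf ⟨x, hxV⟩).asIdeal.primeCompl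
        (X.presheaf.stalk x) inferInstance hd
    rw [e3, e4] at h2
    exact h2
  let η : PrimeSpectrum Ash := ⟨q, hq.1.1⟩
  have hη : η ∈ ({closedPoint Ash}ᶜ : Set (PrimeSpectrum Ash)) := fun e => hqm (congrArg PrimeSpectrum.asIdeal e)
  rw [← isConnected_iff_connectedSpace]
  refine ⟨⟨η, hη⟩, isPreconnected_singleton.subset_closure (Set.singleton_subset_iff.mpr hη) fun z _ => ?_⟩
  rw [PrimeSpectrum.closure_singleton]
  obtain ⟨r, hr, hle⟩ := Ideal.exists_minimalPrimes_le (I := (⊥ : Ideal Ash)) (J := z.asIdeal) bot_le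
  exact (hu' r hr).ge.trans hle

end Groth.Agent.BrnchNbhd
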