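import Groth.Agent.BrnchNbhd.Alg
import Groth.Agent.BrnchLib.NormBij
import Groth.Agent.BrnchLib.HenzStrict
import Groth.Agent.RadPtUnib.Scheme
import Groth.Agent.MorLib.ElemEtaleFinite
import Groth.Agent.Hensel.NbhdPoints
import Groth.Agent.DescLib.EtaleFibre
import Groth.Prelude.Def_Brnch
import Groth.Prelude.Def_Hens2

/-! Branch numbers as suprema of component counts over etale neighbourhoods. -/

set_option autoImplicit false
set_option backward.isDefEq.respectTransparency.types false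
noncomputable section

universe u

open CategoryTheory AlgebraicGeometry

namespace Groth.Agent.BrnchNbhd

/-- Components through a point, as generic points above it. -/
theorem encard_components {X : Scheme.{u}} (x : X) :
    {Z : Set X | Z ∈ irreducibleComponents X ∧ x ∈ Z}.encard =
      {ξ : X | ξ ∈ genericPoints X ∧ ξ ⤳ x}.encard := by
  have h : {Z : Set X | Z ∈ irreducibleComponents X ∧ x ∈ Z} =
      (fun ξ => closure {ξ}) '' {ξ : X | ξ ∈ genericPoints X ∧ ξ ⤳ x} := by
    ext Z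
    constructor
    · rintro ⟨hZ, hx⟩
      have hg := hZ.1.isGenericPoint_genericPoint (isClosed_of_mem_irreducibleComponents _ hZ)
      exact ⟨_, ⟨(show closure _ ∈ irreducibleComponents X by rw [hg.def]; exact hZ), hg.specializes hx⟩, hg.def⟩
    · rintro ⟨ξ, ⟨hξ, hs⟩, rfl⟩
      exact ⟨hξ, specializes_iff_mem_closure.mp hs⟩
  rw [h]
  exact Set.InjOn.encard_image fun a _ b _ hab =>
    (show IsGenericPoint a (closure {b}) from hab).eq rfl

theorem encard_components_affine {X : Scheme.{u}} {W : X.Opens} (hW : IsAffineOpen W) {x : X} (hx : x ∈ W) :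
    {Z : Set X | Z ∈ irreducibleComponents X ∧ x ∈ Z}.encard =
      {q : Ideal Γ(X, W) | q ∈ minimalPrimes Γ(X, W) ∧ q ≤ (hW.primeIdealOf ⟨x, hx⟩).asIdeal}.encard := by
  rw [encard_components]
  refine Set.encard_congr
    { toFun := fun ξ => ⟨(hW.primeIdealOf ⟨ξ.1, ξ.2.2.mem_open W.2 hx⟩).asIdeal,
        (RadPtUnib.minimal_iff hW _).mpr ξ.2.1, (RadPtUnib.le_iff_specializes hW _ hx).mpr ξ.2.2⟩
      invFun := fun q => ⟨hW.fromSpec ⟨q.1, q.2.1.1.1⟩, ?_⟩
      left_inv := fun ξ => Subtype.ext (hW.fromSpec_primeIdealOf ⟨ξ.1, ξ.2.2.mem_open W.2 hx⟩)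
      right_inv := fun q => Subtype.ext (congrArg PrimeSpectrum.asIdeal
        (RadPtUnib.primeIdealOf_fromSpec hW ⟨q.1, q.2.1.1.1⟩ (RadPtUnib.fromSpec_mem hW _))) }
  have hmem := RadPtUnib.fromSpec_mem hW ⟨q.1, q.2.1.1.1⟩
  have he := congrArg PrimeSpectrum.asIdeal (RadPtUnib.primeIdealOf_fromSpec hW ⟨q.1, q.2.1.1.1⟩ hmem)
  exact ⟨(RadPtUnib.minimal_iff hW hmem).mp (he ▸ q.2.1),
    (RadPtUnib.le_iff_specializes hW hmem hx).mp (he ▸ q.2.2)⟩

theorem encard_components_spec {B : Type u} [CommRing B] (P : Spec (CommRingCat.of B)) :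
    {Z : Set (Spec (CommRingCat.of B)) | Z ∈ irreducibleComponents (Spec (CommRingCat.of B)) ∧ P ∈ Z}.encard =
      {q : Ideal B | q ∈ minimalPrimes B ∧ q ≤ PrimeSpectrum.asIdeal P}.encard := by
  rw [encard_components (X := Spec (CommRingCat.of B)) P]
  have hle : ∀ z w : PrimeSpectrum B, z.asIdeal ≤ w.asIdeal ↔ z ⤳ w := fun z w => by
    rw [PrimeSpectrum.asIdeal_le_asIdeal, PrimeSpectrum.le_iff_specializes]
  have hmin : ∀ z : PrimeSpectrum B, z.asIdeal ∈ minimalPrimes B ↔
      z ∈ genericPoints (Spec (CommRingCat.of B)) := fun z => by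
    refine Iff.trans ?_ (RadPtUnib.mem_genericPoints_iff (X := Spec (CommRingCat.of B)) z).symm
    constructor
    · intro h w hw
      exact PrimeSpectrum.ext (le_antisymm ((hle w z).mpr hw) (h.2 ⟨w.2, bot_le⟩ ((hle w z).mpr hw)))
    · intro h
      refine ⟨⟨z.2, bot_le⟩, fun J hJ hJz => ?_⟩
      have := h ⟨J, hJ.1⟩ ((hle ⟨J, hJ.1⟩ z).mp hJz)
      exact (congrArg PrimeSpectrum.asIdeal this).ge
  refine Set.encard_congr
    { toFun := fun ξ => ⟨PrimeSpectrum.asIdeal ξ.1, (hmin ξ.1).mpr ξ.2.1, (hle ξ.1 P).mpr ξ.2.2⟩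
      invFun := fun q => ⟨⟨q.1, q.2.1.1.1⟩, (hmin ⟨q.1, q.2.1.1.1⟩).mp q.2.1, (hle ⟨q.1, q.2.1.1.1⟩ P).mp q.2.2⟩
      left_inv := fun ξ => rfl
      right_inv := fun q => rfl }

theorem evaluation_map {X : Scheme.{u}} {V W : X.Opens} (i : W ≤ V) (x : X) (hx : x ∈ W) (s : Γ(X, V)) :
    X.evaluation W x hx (X.presheaf.map (homOfLE i).op s) = X.evaluation V x (i hx) s := by
  show X.residue x (X.presheaf.germ W x hx (X.presheaf.map (homOfLE i).op s)) = X.residue x (X.presheaf.germ V x (i hx) s)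
  rw [TopCat.Presheaf.germ_res_apply]

variable {X : Scheme.{u}} {V : X.Opens}

theorem encard_le_of_etale (hV : IsAffineOpen V) {U : Scheme.{u}} (g : U ⟶ X) [Etale g] (w : U) (hw : g w ∈ V)
    (L : Type u) [Field L] [Algebra (X.residueField (g w)) L] [Algebra Γ(X, V) L]
    (hL : ∀ r, algebraMap Γ(X, V) L r = algebraMap (X.residueField (g w)) L (X.evaluation V (g w) hw r))
    (ι : U.residueField w →+* L) (hι : ∀ a, ι (g.residueFieldMap w a) = algebraMap _ L a) :
    {Z : Set U | Z ∈ irreducibleComponents U ∧ w ∈ Z}.encard ≤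
      ENat.card (minimalPrimes (Hensel.Henz Γ(X, V) L)) := by
  obtain ⟨W, hW, hwW, hWV⟩ := exists_isAffineOpen_mem_and_subset (x := w) (U := g ⁻¹ᵁ V) hw
  have e : W ≤ g ⁻¹ᵁ V := hWV
  letI : Algebra Γ(X, V) Γ(U, W) := (g.appLE V W e).hom.toAlgebra
  haveI : Algebra.Etale Γ(X, V) Γ(U, W) :=
    (HasRingHomProperty.appLE (P := @Etale) g ‹_› ⟨V, hV⟩ ⟨W, hW⟩ e : (g.appLE V W e).hom.Etale)
  let τ : Γ(U, W) →ₐ[Γ(X, V)] L :=
    { ι.comp (U.evaluation W w hwW).hom with
      commutes' := fun r => by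
        show ι (U.evaluation W w hwW (g.appLE V W e r)) = _
        rw [hL, ← hι, Scheme.evaluation_naturality_apply]
        congr 1
        exact evaluation_map e w hwW _ }
  rw [encard_components_affine hW hwW]
  refine le_of_eq_of_le ?_ (encard_le τ)
  have hτ : RingHom.ker τ = (hW.primeIdealOf ⟨w, hwW⟩).asIdeal := by
    ext a
    rw [RingHom.mem_ker, ← RadPtUnib.evaluation_eq_zero_iff hW hwW]
    exact map_eq_zero ι
  rw [hτ]

/-- The residue field extension of a neighbourhood with values in the residue field is trivial. -/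
theorem bijective_rfm_of_nbhd (hV : IsAffineOpen V) {x : X} (hx : x ∈ V)
    (L : Type u) [Field L] [Algebra (X.residueField x) L] [Algebra Γ(X, V) L]
    (hL : ∀ r, algebraMap Γ(X, V) L r = algebraMap (X.residueField x) L (X.evaluation V x hx r))
    (N : Hensel.Nbhd Γ(X, V) L) (w : PrimeSpectrum N.B) (hw : w.asIdeal = RingHom.ker N.toK)
    (hcomap : w.asIdeal.comap (algebraMap Γ(X, V) N.B) = (hV.primeIdealOf ⟨x, hx⟩).asIdeal)
    (hb : Function.Bijective (algebraMap (X.residueField x) L)) :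
    Function.Bijective
      ((Spec.map (CommRingCat.ofHom (algebraMap Γ(X, V) N.B)) ≫ hV.fromSpec).residueFieldMap w) := by
  let φ : Γ(X, V) ⟶ CommRingCat.of N.B := CommRingCat.ofHom (algebraMap Γ(X, V) N.B)
  let P := (hV.primeIdealOf ⟨x, hx⟩).asIdeal
  haveI : P.IsPrime := (hV.primeIdealOf ⟨x, hx⟩).2
  let κ : P.ResidueField →+* L :=
    Ideal.ResidueField.lift P (algebraMap Γ(X, V) L)
      (fun r hr => by
        show algebraMap Γ(X, V) L r = 0
        rw [hL, (RadPtUnib.evaluation_eq_zero_iff hV hx r).mpr hr, map_zero])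
      (fun r hr => isUnit_iff_ne_zero.mpr fun h => hr ((RadPtUnib.evaluation_eq_zero_iff hV hx r).mp
        ((map_eq_zero (algebraMap (X.residueField x) L)).mp ((hL r).symm.trans h))))
  have hκ : Function.Bijective κ := by
    refine ⟨κ.injective, fun z => ?_⟩
    obtain ⟨z, rfl⟩ := hb.2 z
    obtain ⟨a, s, hs, has⟩ := RadPtUnib.exists_evaluation_mul hV hx z
    have hs0 : algebraMap Γ(X, V) L s ≠ 0 := fun h => hs ((RadPtUnib.evaluation_eq_zero_iff hV hx s).mp
        ((map_eq_zero (algebraMap (X.residueField x) L)).mp ((hL s).symm.trans h)))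
    refine ⟨algebraMap _ _ a / algebraMap _ _ s, ?_⟩
    rw [map_div₀, Ideal.ResidueField.lift_algebraMap, Ideal.ResidueField.lift_algebraMap, div_eq_iff hs0,
      hL, hL, ← map_mul, has]
  let eκ := RingEquiv.ofBijective κ hκ
  let τ : N.B →ₐ[Γ(X, V)] P.ResidueField :=
    { eκ.symm.toRingHom.comp N.toK.toRingHom with
      commutes' := fun r => by
        refine eκ.symm_apply_eq.mpr ?_
        show N.toK (algebraMap _ _ r) = κ (algebraMap _ _ r)
        rw [AlgHom.commutes]
        exact (Ideal.ResidueField.lift_algebraMap P _ _ _ r).symm }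
  have hτ : RingHom.ker τ = w.asIdeal := by
    rw [hw]
    ext b
    show eκ.symm (N.toK b) = 0 ↔ N.toK b = 0
    exact map_eq_zero_iff _ eκ.symm.injective
  haveI : w.asIdeal.IsPrime := w.2
  haveI : (w.asIdeal.comap (algebraMap Γ(X, V) N.B)).IsPrime := Ideal.IsPrime.comap _
  have hq : P = w.asIdeal.comap (algebraMap Γ(X, V) N.B) := hcomap.symm
  have h1 := MorLib.EEF.bijective_rfm_SpecMap φ w
    (MorLib.EEF.bijective_map_congr _ hq hq (Hensel.bijective_of_point τ w.asIdeal hτ hq))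
  exact MorLib.EEF.bijective_rfm_comp (Spec.map φ) hV.fromSpec w h1
    (MorLib.EEF.bijective_rfm_isOpenImmersion _ _)

/-- The scheme of a neighbourhood of the point. -/
theorem exists_etale_of_nbhd (hV : IsAffineOpen V) {x : X} (hx : x ∈ V)
    (L : Type u) [Field L] [Algebra (X.residueField x) L] [Algebra Γ(X, V) L]
    (hL : ∀ r, algebraMap Γ(X, V) L r = algebraMap (X.residueField x) L (X.evaluation V x hx r))
    (N : Hensel.Nbhd Γ(X, V) L) :
    ∃ (U : Scheme.{u}) (g : U ⟶ X) (w : U), Etale g ∧ g w = x ∧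
      {Z : Set U | Z ∈ irreducibleComponents U ∧ w ∈ Z}.encard =
        {q : Ideal N.B | q ∈ minimalPrimes N.B ∧ q ≤ RingHom.ker N.toK}.encard ∧
      (Function.Bijective (algebraMap (X.residueField x) L) → Function.Bijective (g.residueFieldMap w)) := by
  let φ : Γ(X, V) ⟶ CommRingCat.of N.B := CommRingCat.ofHom (algebraMap Γ(X, V) N.B)
  haveI : Etale (Spec.map φ) := HasRingHomProperty.Spec_iff.mpr (RingHom.etale_algebraMap.mpr (inferInstance : Algebra.Etale Γ(X, V) N.B))
  let w : PrimeSpectrum N.B := ⟨RingHom.ker N.toK, RingHom.ker_isPrime _⟩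
  have hcomap : w.comap (algebraMap Γ(X, V) N.B) = hV.primeIdealOf ⟨x, hx⟩ := by
    refine PrimeSpectrum.ext ?_
    ext r
    show N.toK (algebraMap _ _ r) = 0 ↔ _
    rw [AlgHom.commutes, hL, map_eq_zero, RadPtUnib.evaluation_eq_zero_iff hV hx]
  have hgw : (Spec.map φ ≫ hV.fromSpec) w = x := by
    show hV.fromSpec (w.comap (algebraMap Γ(X, V) N.B)) = x
    rw [hcomap]
    exact hV.fromSpec_primeIdealOf ⟨x, hx⟩
  refine ⟨Spec (CommRingCat.of N.B), Spec.map φ ≫ hV.fromSpec, w, inferInstance, hgw, ?_, fun hb => ?_⟩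
  · exact encard_components_spec w
  · exact bijective_rfm_of_nbhd hV hx L hL N w rfl (congrArg PrimeSpectrum.asIdeal hcomap) hb

theorem numBranchesAt_eq (X : Scheme.{u}) (x : X) :
    Brnch.numBranchesAt X x = ⨆ (U : Scheme.{u}) (g : U ⟶ X) (u : U) (_ : Hens2.IsEtaleNbhd g u x),
      {Z : Set ↑U | Z ∈ irreducibleComponents ↑U ∧ u ∈ Z}.encard := by
  obtain ⟨V, hV, hx, -⟩ := exists_isAffineOpen_mem_and_subset (x := x) (U := (⊤ : X.Opens)) trivial
  letI : Algebra Γ(X, V) (X.presheaf.stalk x) := TopCat.Presheaf.algebra_section_stalk X.presheaf (⟨x, hx⟩ : V)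
  haveI : IsLocalization.AtPrime (X.presheaf.stalk x) (hV.primeIdealOf ⟨x, hx⟩).asIdeal :=
    hV.isLocalization_stalk ⟨x, hx⟩
  let A := X.presheaf.stalk x
  let L := IsLocalRing.ResidueField A
  obtain ⟨e⟩ := nonempty_henz_equiv (R := Γ(X, V)) (hV.primeIdealOf ⟨x, hx⟩).asIdeal A L
  have hcard : Brnch.numBranchesAt X x = ENat.card (minimalPrimes (Hensel.Henz Γ(X, V) L)) := by
    rw [card_minimalPrimes_congr e]
    exact (BrnchLib.card_minimalPrimes_henselization A (Hensel.LocalHenz A)).symm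
  have hL : ∀ r, algebraMap Γ(X, V) L r = X.evaluation V x hx r := fun r => rfl
  rw [hcard]
  refine le_antisymm (card_le_iSup.trans (iSup_le fun N => ?_))
    (iSup_le fun U => iSup_le fun g => iSup_le fun w => iSup_le fun h => ?_)
  · letI : Algebra (X.residueField x) L := Algebra.id (X.residueField x)
    obtain ⟨U, g, w, hg, hgw, hcd, hb⟩ := exists_etale_of_nbhd hV hx L (fun r => hL r) N
    rw [← hcd]
    exact le_iSup_of_le U (le_iSup_of_le g (le_iSup_of_le w
      (le_iSup_of_le ⟨hg, hgw, hb Function.bijective_id⟩ le_rfl)))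
  · obtain ⟨hg, rfl, hb⟩ := h
    letI : Algebra (X.residueField (g w)) L := Algebra.id (X.residueField (g w))
    refine encard_le_of_etale hV g w hx L (fun r => hL r) (RingEquiv.ofBijective _ hb).symm.toRingHom ?_
    exact fun a => (RingEquiv.ofBijective _ hb).symm_apply_apply a

theorem numGeomBranchesAt_eq (X : Scheme.{u}) (x : X) :
    Brnch.numGeomBranchesAt X x = ⨆ (U : Scheme.{u}) (g : U ⟶ X) (u : U) (_ : Etale g ∧ g u = x),
      {Z : Set ↑U | Z ∈ irreducibleComponents ↑U ∧ u ∈ Z}.encard := by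
  obtain ⟨V, hV, hx, -⟩ := exists_isAffineOpen_mem_and_subset (x := x) (U := (⊤ : X.Opens)) trivial
  letI : Algebra Γ(X, V) (X.presheaf.stalk x) := TopCat.Presheaf.algebra_section_stalk X.presheaf (⟨x, hx⟩ : V)
  haveI : IsLocalization.AtPrime (X.presheaf.stalk x) (hV.primeIdealOf ⟨x, hx⟩).asIdeal :=
    hV.isLocalization_stalk ⟨x, hx⟩
  let A := X.presheaf.stalk x
  let L := SeparableClosure (IsLocalRing.ResidueField A)
  letI : Algebra Γ(X, V) L := ((algebraMap A L).comp (algebraMap Γ(X, V) A)).toAlgebra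
  haveI : IsScalarTower Γ(X, V) A L := .of_algebraMap_eq fun r => rfl
  obtain ⟨e⟩ := nonempty_henz_equiv (R := Γ(X, V)) (hV.primeIdealOf ⟨x, hx⟩).asIdeal A L
  have hcard : Brnch.numGeomBranchesAt X x = ENat.card (minimalPrimes (Hensel.Henz Γ(X, V) L)) := by
    rw [card_minimalPrimes_congr e]
    exact (BrnchLib.card_minimalPrimes_strictHenselization A (Hensel.StrictHenz A)).symm
  have hL : ∀ r, algebraMap Γ(X, V) L r =
      algebraMap (IsLocalRing.ResidueField A) L (X.evaluation V x hx r) := fun r => rfl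
  rw [hcard]
  refine le_antisymm (card_le_iSup.trans (iSup_le fun N => ?_))
    (iSup_le fun U => iSup_le fun g => iSup_le fun w => iSup_le fun h => ?_)
  · letI : Algebra (X.residueField x) L := (inferInstance : Algebra (IsLocalRing.ResidueField A) L)
    obtain ⟨U, g, w, hg, hgw, hcd, -⟩ := exists_etale_of_nbhd hV hx L hL N
    rw [← hcd]
    exact le_iSup_of_le U (le_iSup_of_le g (le_iSup_of_le w (le_iSup_of_le ⟨hg, hgw⟩ le_rfl)))
  · obtain ⟨hg, rfl⟩ := h
    letI : Algebra (X.residueField (g w)) L := (inferInstance : Algebra (IsLocalRing.ResidueField A) L)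
    letI : Algebra (X.residueField (g w)) (U.residueField w) := (g.residueFieldMap w).hom.toAlgebra
    haveI : Algebra.IsSeparable (X.residueField (g w)) (U.residueField w) :=
      inferInstanceAs (letI : Algebra (X.residueField (g w)) (U.residueField w) :=
        (g.residueFieldMap w).hom.toAlgebra; Algebra.IsSeparable (X.residueField (g w)) (U.residueField w))
    haveI : IsSepClosed L := inferInstanceAs (IsSepClosed (SeparableClosure (IsLocalRing.ResidueField A)))
    let ι : U.residueField w →ₐ[X.residueField (g w)] L := IsSepClosed.lift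
    exact encard_le_of_etale hV g w hx L hL ι.toRingHom fun a => ι.commutes a

end Groth.Agent.BrnchNbhd
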